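import Mathlib
import Cfsg.Agent.OddOrderLocal.FitAux
import Cfsg.Agent.OddOrderLocal.PiCore
import Cfsg.Agent.S1351
import Cfsg.Agent.S1352
import Cfsg.Agent.S1364
import Cfsg.Agent.S1365
import Cfsg.Agent.S1366
import Cfsg.Agent.S1368
import Cfsg.Agent.S1369
import Cfsg.Agent.S1370
import Cfsg.Agent.S1381
import Cfsg.Agent.S1382
import Cfsg.Agent.S1383
import Cfsg.Agent.OddOrderCharacters.TypeExclusive
import Cfsg.Agent.OddOrderCharacters.PFDefs
import Cfsg.Agent.S1355
import Cfsg.Agent.OddOrderCharacters.TypeSetsBasic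
import Cfsg.Prelude.Def_OddOrderLocal
import Cfsg.Agent.OddOrderLocal.TypeP
import Cfsg.Agent.Solvable.Hall
import Cfsg.Agent.Solvable.Glauberman
import Cfsg.Agent.S1350
import Cfsg.Agent.S1373
import Cfsg.Agent.S1389
import Cfsg.Agent.OddOrderLocal.TypePData
set_option linter.all false

-- part: OddOrderLocal/TheoremI
section
/-!
B & G, Theorem I, in a form that does not mention Type I: if every maximal subgroup with `κ(M) = ∅` has the
property `P`, then either all maximal subgroups have the property `P`, or there is the pair `S, T` of maximal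
subgroups of types II to V, and every maximal subgroup has `P` or is conjugate to `S` or `T`.
-/

set_option autoImplicit false
open Cfsg

namespace Cfsg.Agent.OddOrderLocal.TheoremI

open Subgroup
open Cfsg.Agent.OddOrderLocal

/-- `K ∩ M_σ = 1` for a `κ(M)`-subgroup `K`. -/
theorem inf_sigmaCore_eq_bot {G : Type*} [Group G] [Finite G] {M K : Subgroup G}
    (hK : IsPiHallOf (kappa M) K M) : K ⊓ sigmaCore M = ⊥ := by
  refine Subgroup.inf_eq_bot_of_coprime ?_
  rw [Nat.coprime_iff_gcd_eq_one]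
  by_contra hne
  obtain ⟨p, hp, hd⟩ := Nat.exists_prime_and_dvd hne
  have h1 := hK.2.1 p hp (hd.trans (Nat.gcd_dvd_left _ _))
  have h2 : p ∣ Nat.card (piCore (sigma M) M) := by
    have h3 : Nat.card (sigmaCore M) = Nat.card (piCore (sigma M) M) :=
      Nat.card_congr ((piCore (sigma M) M).equivMapOfInjective M.subtype
        (Subgroup.subtype_injective M)).symm.toEquiv
    rw [← h3]
    exact hd.trans (Nat.gcd_dvd_right _ _)
  exact h1.2.2.1 (PiCore.piCore_isPi (sigma M) p hp h2)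

/-- `K` is a complement of `M'` in `M` when `K ≠ 1`. -/
theorem isComplIn_commutator {G : Type*} [Group G] [Finite G] (hG : Cfsg.IsMinSimpleOddOrder G)
    (M : Subgroup G) (hM : IsCoatom M) (K U : Subgroup G) (hKU : Cfsg.IsSigmaDecomposition M K U)
    (hK1 : K ≠ ⊥) : Cfsg.IsComplIn ⁅M, M⁆ K M := by
  have hder := (S1365.result hG M hM K U hKU hK1).1
  obtain ⟨hUM, hKM, hinf, hfac⟩ := hKU.compl
  have hn := FitAux.le_normalizer_sigmaCore M
  have hUn : U ≤ Subgroup.normalizer (sigmaCore M : Set G) := hUM.trans hn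
  have hKn : K ≤ Subgroup.normalizer (sigmaCore M : Set G) := (hKU.hall.1).trans hn
  refine ⟨?_, hKU.hall.1, ?_, ?_⟩
  · rw [hder]
    exact sup_le hUM (FitAux.sigmaCore_le M)
  · rw [eq_bot_iff]
    rintro x ⟨hx1, hx2⟩
    rw [hder] at hx1
    have hx3 : x ∈ ((U ⊔ sigmaCore M : Subgroup G) : Set G) := hx1
    rw [Subgroup.coe_mul_of_left_le_normalizer_right U (sigmaCore M) hUn] at hx3
    obtain ⟨u, hu, s, hs, rfl⟩ := hx3
    have hu1 : u ∈ U ⊓ (K ⊔ sigmaCore M) := by
      refine ⟨hu, ?_⟩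
      have : u = (u * s) * s⁻¹ := by group
      rw [this]
      exact mul_mem (mem_sup_left hx2) (mem_sup_right (inv_mem hs))
    rw [hinf, Subgroup.mem_bot] at hu1
    subst hu1
    have h4 : 1 * s ∈ K ⊓ sigmaCore M := by
      refine ⟨hx2, ?_⟩
      rw [one_mul]; exact hs
    rw [inf_sigmaCore_eq_bot hKU.hall] at h4
    exact h4
  · intro m hm
    obtain ⟨u, hu, c, hc, rfl⟩ := hfac m hm
    have hc3 : c ∈ ((sigmaCore M ⊔ K : Subgroup G) : Set G) := by
      rw [sup_comm]; exact hc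
    rw [Subgroup.coe_mul_of_right_le_normalizer_left (sigmaCore M) K hKn] at hc3
    obtain ⟨s, hs, k, hk, rfl⟩ := hc3
    refine ⟨u * s, ?_, k, hk, ?_⟩
    · rw [hder]
      exact mul_mem (mem_sup_left hu) (mem_sup_right hs)
    · exact (mul_assoc u s k).symm

/-- Types of maximal subgroups with `κ ≠ ∅`. -/
theorem type_two_to_five {G : Type*} [Group G] [Finite G] (hG : Cfsg.IsMinSimpleOddOrder G)
    (M : Subgroup G) (hM : IsCoatom M) (K U : Subgroup G) (hKU : Cfsg.IsSigmaDecomposition M K U)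
    (hK1 : K ≠ ⊥) :
    Cfsg.IsOfTypeII M ∨ Cfsg.IsOfTypeIII M ∨ Cfsg.IsOfTypeIV M ∨ Cfsg.IsOfTypeV M := by
  by_cases hU : U = ⊥
  · by_cases hF : Cfsg.fittingHallOf M = Cfsg.sigmaCore M
    · exact Or.inr (Or.inr (Or.inr ((S1383.result hG M hM K U hKU).2 ⟨hK1, hU, hF⟩)))
    · rcases (S1382.result hG M hM K U hKU).2 ⟨hK1, hU, hF⟩ with h | h
      · exact Or.inr (Or.inl h)
      · exact Or.inr (Or.inr (Or.inl h))
  · exact Or.inl ((S1381.result hG M hM K U hKU).2 ⟨hK1, hU⟩)

/-- A standard factorisation exists. -/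
theorem exists_decomposition {G : Type*} [Group G] [Finite G] (hG : Cfsg.IsMinSimpleOddOrder G)
    (M : Subgroup G) (hM : IsCoatom M) : ∃ K U : Subgroup G, Cfsg.IsSigmaDecomposition M K U := by
  obtain ⟨⟨K, hK⟩, hcyc⟩ := S1351.result hG M hM
  obtain ⟨⟨U, hU⟩, -⟩ := S1352.result hG M hM K (hcyc K hK) hK
  exact ⟨K, U, hU⟩

/-- If `κ(M) ≠ ∅` then the Hall `κ(M)`-subgroup is nontrivial. -/
theorem ne_bot_of_kappa_nonempty {G : Type*} [Group G] [Finite G]
    {M K : Subgroup G} (hK : IsPiHallOf (kappa M) K M) (hk : (Cfsg.kappa M).Nonempty) : K ≠ ⊥ := by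
  rintro rfl
  obtain ⟨p, hp⟩ := hk
  refine hK.2.2 p hp.1 hp ?_
  rw [Subgroup.relIndex_bot_left]
  exact hp.2.1

/-- the pair `K, K*` is a self-normalizing cyclic pair. -/
theorem isSelfNormalizingCyclic {G : Type*} [Group G] [Finite G] (hG : Cfsg.IsMinSimpleOddOrder G)
    (M : Subgroup G) (hM : IsCoatom M) (K U : Subgroup G) (hKU : Cfsg.IsSigmaDecomposition M K U)
    (hK1 : K ≠ ⊥)
    (hcyc : IsCyclic ↥(K ⊔ (Cfsg.sigmaCore M ⊓ Subgroup.centralizer (K : Set G)))) :
    Cfsg.IsSelfNormalizingCyclic K (Cfsg.sigmaCore M ⊓ Subgroup.centralizer (K : Set G)) := by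
  obtain ⟨hTI, hN⟩ := S1370.result hG M hM K U hKU hK1
  have hs := (S1364.result hG M hM K U hKU hK1).2.1
  set Ks : Subgroup G := Cfsg.sigmaCore M ⊓ Subgroup.centralizer (K : Set G) with hKs
  refine ⟨hK1, hs, ?_, ?_, hcyc, ?_⟩
  · rw [eq_bot_iff, ← inf_sigmaCore_eq_bot hKU.hall]
    exact inf_le_inf_left K inf_le_left
  · intro a ha b hb
    exact Subgroup.mem_centralizer_iff.mp hb.2 a ha
  · intro X hX hne
    have hcomm : ∀ a ∈ K ⊔ Ks, ∀ b ∈ K ⊔ Ks, a * b = b * a := by
      intro a ha b hb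
      have hc : IsMulCommutative ↥(K ⊔ Ks) := IsCyclic.isMulCommutative
      exact congrArg Subtype.val (hc.1.1 ⟨a, ha⟩ ⟨b, hb⟩)
    apply le_antisymm
    · intro g hg
      obtain ⟨x, hx⟩ := hne
      rw [← hN]
      by_contra hgn
      have h1 := (Subgroup.mem_set_normalizer_iff.mp hg x).1 hx
      have h2 := hTI g hgn x (hX hx) (hX h1)
      have h3 := (hX hx).2
      apply h3
      left
      rw [h2]
      exact K.one_mem
    · intro g hg
      rw [Subgroup.mem_set_normalizer_iff]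
      intro x
      constructor
      · intro hx
        have h1 := hcomm g hg x (hX hx).1
        rw [h1, mul_inv_cancel_right]
        exact hx
      · intro hx
        have h1 : x ∈ K ⊔ Ks := by
          have h2 : x = g⁻¹ * (g * x * g⁻¹) * g := by group
          rw [h2]
          exact mul_mem (mul_mem (inv_mem hg) (hX hx).1) hg
        have h3 := hcomm g hg x h1
        rwa [h3, mul_inv_cancel_right] at hx

/-- B & G, Theorem I, generic form. `P` is the property (weak Type I, Type I, ...) of the maximal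
subgroups with `κ(M) = ∅`. -/
theorem structure_of {G : Type*} [Group G] [Finite G] (hG : Cfsg.IsMinSimpleOddOrder G)
    (P : Subgroup G → Prop)
    (hI : ∀ M : Subgroup G, IsCoatom M → ¬ (Cfsg.kappa M).Nonempty → P M) :
    (∀ M : Subgroup G, IsCoatom M → P M) ∨
      ∃ W₁ W₂ S T : Subgroup G, Cfsg.IsSelfNormalizingCyclic W₁ W₂ ∧ IsCoatom S ∧ IsCoatom T ∧
        Cfsg.IsComplIn ⁅S, S⁆ W₁ S ∧ Cfsg.IsComplIn ⁅T, T⁆ W₂ T ∧ S ⊓ T = W₁ ⊔ W₂ ∧
        (Cfsg.IsOfTypeII S ∨ Cfsg.IsOfTypeII T) ∧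
        (Cfsg.IsOfTypeII S ∨ Cfsg.IsOfTypeIII S ∨ Cfsg.IsOfTypeIV S ∨ Cfsg.IsOfTypeV S) ∧
        (Cfsg.IsOfTypeII T ∨ Cfsg.IsOfTypeIII T ∨ Cfsg.IsOfTypeIV T ∨ Cfsg.IsOfTypeV T) ∧
        ∀ M : Subgroup G, IsCoatom M → P M ∨ ∃ g : G, M = S.map (MulAut.conj g).toMonoidHom ∨
          M = T.map (MulAut.conj g).toMonoidHom := by
  by_cases hex : ∃ M : Subgroup G, IsCoatom M ∧ (Cfsg.kappa M).Nonempty
  · right
    obtain ⟨M, hM, hkM⟩ := hex
    obtain ⟨K, U, hKU⟩ := exists_decomposition hG M hM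
    have hK1 : K ≠ ⊥ := ne_bot_of_kappa_nonempty hKU.hall hkM
    obtain ⟨Ms, ⟨hMs, hKst, hKstH⟩, -⟩ := S1366.result hG M hM K U hKU hK1
    obtain ⟨hcs, hsne, -, -⟩ := S1364.result hG M hM K U hKU hK1
    obtain ⟨hinter, hcyc⟩ := S1368.result hG M hM K U hKU hK1 Ms hMs hKst hKstH
    obtain ⟨hP2, hclass⟩ := S1369.result hG M hM K U hKU hK1 Ms hMs hKst hKstH
    obtain ⟨⟨Us, hKUs⟩, -⟩ := S1352.result hG Ms hMs _ hcs hKstH
    refine ⟨K, _, M, Ms, isSelfNormalizingCyclic hG M hM K U hKU hK1 hcyc, hM, hMs,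
      isComplIn_commutator hG M hM K U hKU hK1,
      isComplIn_commutator hG Ms hMs _ Us hKUs hsne, hinter, ?_,
      type_two_to_five hG M hM K U hKU hK1, type_two_to_five hG Ms hMs _ Us hKUs hsne, ?_⟩
    · rcases hP2 with h | h
      · exact Or.inl ((S1381.result hG M hM K U hKU).2 ⟨hK1, h⟩)
      · exact Or.inr ((S1381.result hG Ms hMs _ Us hKUs).2 ⟨hsne, h Us hKUs⟩)
    · intro H hH
      by_cases hkH : (Cfsg.kappa H).Nonempty
      · exact Or.inr (hclass H hH hkH)
      · exact Or.inl (hI H hH hkH)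
  · left
    intro M hM
    exact hI M hM fun h => hex ⟨M, hM, h⟩

end Cfsg.Agent.OddOrderLocal.TheoremI
end

-- part: OddOrderCharacters/WeakTypes
section
/-!
# Weak type I and the sets `A'(M)`, `A₀'(M)` of PFDefs: basic API

Membership, containment in `M`, invariance under `M`, comparison with the literal `IsOfTypeI`, `typeA`, `typeA0`
(they agree whenever `M` is of type P or of literal type I).  Unconditional.
-/

set_option autoImplicit false

namespace Cfsg.Agent.OddOrderCharacters.WeakTypes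

open Cfsg Cfsg.Agent.OddOrderCharacters.TypeSetsBasic Cfsg.Agent.OddOrderCharacters.TypeExclusive
  Cfsg.Agent.OddOrderCharacters.PFDefs

universe u

variable {G : Type u} [Group G]

/-! ### Weak type I -/

theorem isOfTypeI'_iff {M : Subgroup G} : IsOfTypeI' M ↔ IsOfTypeF M ∧
  ( IsTISubset (fittingHallOf M : Set G) ∨
    (IsMulCommutative (fittingHallOf M) ∧ RankLE 2 (fittingHallOf M) ∧ ¬ RankLE 1 (fittingHallOf M)) ∨
    ((∀ p : ℕ, p.Prime → p ∣ Nat.card (fittingHallOf M) →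
        Monoid.exponent (M ⧸ fittingHall M) ∣ p - 1) ∧
      ∃ p : ℕ, p.Prime ∧ p ∣ Nat.card (fittingHallOf M) ∧ IsCyclic (pPrimeCore p (fittingHallOf M)))) :=
  Iff.rfl

/-- Weak type I excludes type P. -/
theorem not_isOfTypeP_of_isOfTypeI' [Finite G] {M : Subgroup G} (hI : IsOfTypeI' M) :
    ¬ IsOfTypeP M := not_isOfTypeP_of_isOfTypeF hI.1

/-- `O_{p'}(M_F)` embeds in `O_{p'}(M)`. -/
theorem isCyclic_pPrimeCore_fittingHallOf [Finite G] {M : Subgroup G} {p : ℕ}
    (h : IsCyclic (pPrimeCore p M)) : IsCyclic (pPrimeCore p (fittingHallOf M)) := by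
  let e : fittingHall M ≃* fittingHallOf M :=
    (fittingHall M).equivMapOfInjective M.subtype M.subtype_injective
  have h1 : (pPrimeCore p (fittingHall M)).map (fittingHall M).subtype ≤ pPrimeCore p M := by
    rw [Cfsg.Agent.Lib.Cores.map_subtype_pPrimeCore p (fittingHall_normal M)]
    exact inf_le_right
  let j : pPrimeCore p (fittingHall M) →* pPrimeCore p M :=
    ((fittingHall M).subtype.comp (pPrimeCore p (fittingHall M)).subtype).codRestrict _
      fun x => h1 ⟨x, x.2, rfl⟩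
  have hj : Function.Injective j := by
    intro x y hxy
    have h2 : ((j x : M) : M) = (j y : M) := congrArg Subtype.val hxy
    exact Subtype.ext (Subtype.ext h2)
  have h2 : IsCyclic (pPrimeCore p (fittingHall M)) := isCyclic_of_injective j hj
  have h3 := Cfsg.Agent.Lib.Cores.map_equiv_pPrimeCore e p
  rw [← h3]
  exact isCyclic_of_surjective
    ((pPrimeCore p (fittingHall M)).equivMapOfInjective e.toMonoidHom e.injective)
    (MulEquiv.surjective _)

/-- Literal type I implies weak type I. -/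
theorem isOfTypeI'_of_I [Finite G] {M : Subgroup G} (hI : IsOfTypeI M) : IsOfTypeI' M := by
  obtain ⟨h1, h2⟩ := hI
  refine ⟨h1, ?_⟩
  rcases h2 with h2 | h2 | ⟨h2, p, hp, hpd, hc⟩
  · exact Or.inl h2
  · exact Or.inr (Or.inl h2)
  · exact Or.inr (Or.inr ⟨h2, p, hp, hpd, isCyclic_pPrimeCore_fittingHallOf hc⟩)

theorem not_three_or_four_of_isOfTypeI' [Finite G] {M : Subgroup G} (hI : IsOfTypeI' M) :
    ¬ (IsOfTypeIII M ∨ IsOfTypeIV M) := by
  rintro (h | h)
  · exact not_isOfTypeP_of_isOfTypeI' hI (isOfTypeP_of_III h)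
  · exact not_isOfTypeP_of_isOfTypeI' hI (isOfTypeP_of_IV h)

/-- `M_s = M_F` when `M` is not of type P. -/
theorem typeCore_of_not_P {M : Subgroup G} (h : ¬ IsOfTypeP M) : typeCore M = fittingHallOf M := by
  apply typeCore_of_not
  rintro (h3 | h4)
  · exact h (isOfTypeP_of_III h3)
  · exact h (isOfTypeP_of_IV h4)

theorem typeCore_of_I' [Finite G] {M : Subgroup G} (hI : IsOfTypeI' M) :
    typeCore M = fittingHallOf M := typeCore_of_not_P (not_isOfTypeP_of_isOfTypeI' hI)

/-! ### Membership -/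

theorem mem_typeA'_of_P {M : Subgroup G} (h : IsOfTypeP M) {a : G} :
    a ∈ typeA' M ↔ a ∈ ⁅M, M⁆ ∧ a ≠ 1 ∧ ∃ x ∈ typeCore M, x ≠ 1 ∧ a * x = x * a := by
  rw [typeA'_of_typeP h]; rfl

theorem mem_typeA'_of_not_P {M : Subgroup G} (h : ¬ IsOfTypeP M) {a : G} :
    a ∈ typeA' M ↔ a ∈ M ∧ a ≠ 1 ∧ ∃ x ∈ fittingHallOf M, x ≠ 1 ∧ a * x = x * a := by
  rw [typeA'_of_not_typeP h]; rfl

theorem mem_typeA0' {M : Subgroup G} {a : G} :
    a ∈ typeA0' M ↔ a ∈ typeA' M ∨ (∃ W₁ U W₂ : Subgroup G, IsTypePWith M W₁ U W₂ ∧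
      ∃ m ∈ M, ∃ w ∈ W₁ ⊔ W₂, w ∉ W₁ ∧ w ∉ W₂ ∧ a = m * w * m⁻¹) := Iff.rfl

theorem typeA'_subset_typeA0' (M : Subgroup G) : typeA' M ⊆ typeA0' M :=
  Set.subset_union_left

theorem typeA'_subset (M : Subgroup G) : typeA' M ⊆ (M : Set G) := by
  intro a ha
  by_cases h : IsOfTypeP M
  · exact commutator_le_self M ((mem_typeA'_of_P h).1 ha).1
  · exact ((mem_typeA'_of_not_P h).1 ha).1

theorem one_not_mem_typeA' (M : Subgroup G) : (1 : G) ∉ typeA' M := by
  intro ha
  by_cases h : IsOfTypeP M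
  · exact ((mem_typeA'_of_P h).1 ha).2.1 rfl
  · exact ((mem_typeA'_of_not_P h).1 ha).2.1 rfl

theorem one_not_mem_typeA0' (M : Subgroup G) : (1 : G) ∉ typeA0' M := by
  rw [mem_typeA0']
  rintro (h | ⟨W₁, U, W₂, -, m, -, w, -, hw1, -, hw⟩)
  · exact one_not_mem_typeA' M h
  · apply hw1
    have : w = 1 := conj_eq_one_iff.1 hw.symm
    rw [this]
    exact W₁.one_mem

theorem typeA0'_subset (M : Subgroup G) : typeA0' M ⊆ (M : Set G) := by
  intro a
  rw [mem_typeA0']
  rintro (h | ⟨W₁, U, W₂, hP, m, hm, w, hw, -, -, rfl⟩)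
  · exact typeA'_subset M h
  · exact M.mul_mem (M.mul_mem hm ((sup_le (W₁_le hP) (W₂_le hP)) hw)) (M.inv_mem hm)

theorem typeA'_conj_mem {M : Subgroup G} {m a : G} (hm : m ∈ M) (ha : a ∈ typeA' M) :
    m * a * m⁻¹ ∈ typeA' M := by
  by_cases h : IsOfTypeP M
  · rw [mem_typeA'_of_P h] at ha ⊢
    obtain ⟨h1, h2, x, hx, hx1, hax⟩ := ha
    exact ⟨commutator_conj_mem hm h1, conj_ne_one h2, m * x * m⁻¹,
      typeCore_conj_mem hm hx, conj_ne_one hx1, conj_commute hax⟩
  · rw [mem_typeA'_of_not_P h] at ha ⊢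
    obtain ⟨h1, h2, x, hx, hx1, hax⟩ := ha
    exact ⟨M.mul_mem (M.mul_mem hm h1) (M.inv_mem hm), conj_ne_one h2, m * x * m⁻¹,
      fittingHallOf_conj_mem hm hx, conj_ne_one hx1, conj_commute hax⟩

theorem typeA0'_conj_mem {M : Subgroup G} {m a : G} (hm : m ∈ M) (ha : a ∈ typeA0' M) :
    m * a * m⁻¹ ∈ typeA0' M := by
  rw [mem_typeA0'] at ha ⊢
  rcases ha with ha | ⟨W₁, U, W₂, hP, n, hn, w, hw, hw1, hw2, rfl⟩
  · exact Or.inl (typeA'_conj_mem hm ha)
  · refine Or.inr ⟨W₁, U, W₂, hP, m * n, M.mul_mem hm hn, w, hw, hw1, hw2, ?_⟩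
    group

/-! ### Comparison with the literal sets -/

theorem typeA'_eq_of_P [Finite G] {M : Subgroup G} (h : IsOfTypeP M) : typeA' M = typeA M := by
  have hI : ¬ IsOfTypeI M := fun hI => not_isOfTypeP_of_isOfTypeI hI h
  rw [typeA'_of_typeP h, typeA_of_not_I hI]

theorem typeA'_eq_of_I [Finite G] {M : Subgroup G} (h : IsOfTypeI M) : typeA' M = typeA M := by
  rw [typeA'_of_not_typeP (not_isOfTypeP_of_isOfTypeI h), typeA_of_I h]

theorem typeA0'_eq_of_P [Finite G] {M : Subgroup G} (h : IsOfTypeP M) : typeA0' M = typeA0 M := by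
  have hI : ¬ IsOfTypeI M := fun hI => not_isOfTypeP_of_isOfTypeI hI h
  ext a
  rw [mem_typeA0', mem_typeA0, typeA'_eq_of_P h]
  constructor
  · rintro (h1 | h1)
    · exact Or.inl h1
    · exact Or.inr ⟨hI, h1⟩
  · rintro (h1 | ⟨-, h1⟩)
    · exact Or.inl h1
    · exact Or.inr h1

theorem typeA0'_eq_of_I [Finite G] {M : Subgroup G} (h : IsOfTypeI M) : typeA0' M = typeA0 M := by
  rw [typeA0'_of_not_typeP (not_isOfTypeP_of_isOfTypeI h), typeA0_of_I h, typeA'_eq_of_I h]

theorem supports'_iff_of_P [Finite G] {L M : Subgroup G} (h : IsOfTypeP M) :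
    Supports' L M ↔ Supports L M := by
  unfold Supports' Supports
  rw [typeA0'_eq_of_P h]

end Cfsg.Agent.OddOrderCharacters.WeakTypes
end

-- part: OddOrderCharacters/PF8/Core
section
/-!
# The cores `M_F`, `M_s`, `M_σ` of a maximal subgroup (only S1355 is used)
-/

set_option autoImplicit false

namespace Cfsg.Agent.OddOrderCharacters.PF8

open Cfsg Cfsg.Agent.OddOrderCharacters.TypeSetsBasic

universe u

variable {G : Type u} [Group G] [Finite G]

theorem fittingHallOf_le_sigmaCore (hG : IsMinSimpleOddOrder G) {M : Subgroup G}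
    (hM : IsCoatom M) : fittingHallOf M ≤ sigmaCore M :=
  (Cfsg.Agent.S1355.result hG M hM).2.1

theorem sigmaCore_le_derived (hG : IsMinSimpleOddOrder G) {M : Subgroup G}
    (hM : IsCoatom M) : sigmaCore M ≤ ⁅M, M⁆ := (Cfsg.Agent.S1355.result hG M hM).2.2.1

theorem fittingHallOf_le_derived (hG : IsMinSimpleOddOrder G) {M : Subgroup G}
    (hM : IsCoatom M) : fittingHallOf M ≤ ⁅M, M⁆ :=
  (fittingHallOf_le_sigmaCore hG hM).trans (sigmaCore_le_derived hG hM)

theorem fittingHallOf_ne_bot (hG : IsMinSimpleOddOrder G) {M : Subgroup G}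
    (hM : IsCoatom M) : fittingHallOf M ≠ ⊥ :=
  (Cfsg.Agent.S1355.result hG M hM).1

theorem typeCore_le_derived (hG : IsMinSimpleOddOrder G) {M : Subgroup G}
    (hM : IsCoatom M) : typeCore M ≤ ⁅M, M⁆ := by
  rcases TypeSetsBasic.typeCore_eq M with h | h <;> rw [h]
  exact fittingHallOf_le_derived hG hM

theorem fittingHallOf_le_typeCore (hG : IsMinSimpleOddOrder G) {M : Subgroup G}
    (hM : IsCoatom M) : fittingHallOf M ≤ typeCore M := by
  rcases TypeSetsBasic.typeCore_eq M with h | h <;> rw [h]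
  exact fittingHallOf_le_derived hG hM

theorem typeCore_ne_bot (hG : IsMinSimpleOddOrder G) {M : Subgroup G} (hM : IsCoatom M) :
    typeCore M ≠ ⊥ := by
  intro h
  have := fittingHallOf_le_typeCore hG hM
  rw [h, le_bot_iff] at this
  exact fittingHallOf_ne_bot hG hM this

/-- Normalizers of nontrivial normal subgroups of `M`. -/
theorem normalizer_eq (hG : IsMinSimpleOddOrder G) {M : Subgroup G} (hM : IsCoatom M)
    (N : Subgroup G) (hN : N ≠ ⊥) (hNM : N ≤ M) (hn : ∀ x ∈ M, ∀ h ∈ N, x * h * x⁻¹ ∈ N) :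
    Subgroup.normalizer (N : Set G) = M := by
  have h1 : M ≤ Subgroup.normalizer (N : Set G) := Subgroup.le_normalizer_iff.2 hn
  rcases hM.le_iff.1 h1 with h2 | h2
  · exfalso
    have h3 : N.Normal := Subgroup.normalizer_eq_top_iff.1 h2
    have := hG.2.1
    rcases this.eq_bot_or_eq_top_of_normal N h3 with h4 | h4
    · exact hN h4
    · rw [h4, top_le_iff] at hNM
      exact hM.1 hNM
  · exact h2

theorem normalizer_fittingHallOf (hG : IsMinSimpleOddOrder G) {M : Subgroup G} (hM : IsCoatom M) :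
    Subgroup.normalizer (fittingHallOf M : Set G) = M :=
  normalizer_eq hG hM _ (fittingHallOf_ne_bot hG hM) (fittingHallOf_le M)
    fun _ hx _ hh => fittingHallOf_conj_mem hx hh

theorem normalizer_typeCore (hG : IsMinSimpleOddOrder G) {M : Subgroup G} (hM : IsCoatom M) :
    Subgroup.normalizer (typeCore M : Set G) = M :=
  normalizer_eq hG hM _ (typeCore_ne_bot hG hM) (typeCore_le M)
    fun _ hx _ hh => typeCore_conj_mem hx hh

end Cfsg.Agent.OddOrderCharacters.PF8
end

-- part: OddOrderCharacters/TypeEquivariance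
section
/-!
Isomorphism (in particular conjugation) invariance of the types of maximal subgroups and of the sets
attached to them (second half of `Def_OddOrderLocal`).
-/

set_option autoImplicit false

namespace Cfsg.Agent.OddOrderCharacters.TypeEquivariance

open Cfsg

universe u

variable {G H : Type u} [Group G] [Group H]

/-! ### General transport lemmas for an isomorphism `e : G ≃* H` -/

theorem mem_map_equiv (e : G ≃* H) (K : Subgroup G) (x : G) :
    e x ∈ K.map e.toMonoidHom ↔ x ∈ K := by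
  constructor
  · rintro ⟨y, hy, hxy⟩
    have : y = x := e.injective hxy
    exact this ▸ hy
  · intro hx
    exact ⟨x, hx, rfl⟩

theorem mem_map_equiv' (e : G ≃* H) (K : Subgroup G) (y : H) :
    y ∈ K.map e.toMonoidHom ↔ e.symm y ∈ K := by
  rw [← mem_map_equiv e K (e.symm y)]; simp

theorem map_symm_map (e : G ≃* H) (K : Subgroup G) :
    (K.map e.toMonoidHom).map e.symm.toMonoidHom = K := by
  ext x
  rw [mem_map_equiv' e.symm, mem_map_equiv' e]; simp

theorem map_map_symm (e : G ≃* H) (K : Subgroup H) :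
    (K.map e.symm.toMonoidHom).map e.toMonoidHom = K := by
  ext x
  rw [mem_map_equiv' e, mem_map_equiv' e.symm]; simp

theorem map_le_map_iff' (e : G ≃* H) (K L : Subgroup G) :
    K.map e.toMonoidHom ≤ L.map e.toMonoidHom ↔ K ≤ L := by
  constructor
  · intro h x hx
    exact (mem_map_equiv e L x).1 (h ((mem_map_equiv e K x).2 hx))
  · intro h; exact Subgroup.map_mono h

theorem map_injective' (e : G ≃* H) (K L : Subgroup G)
    (h : K.map e.toMonoidHom = L.map e.toMonoidHom) : K = L :=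
  le_antisymm ((map_le_map_iff' e K L).1 h.le) ((map_le_map_iff' e L K).1 h.ge)

theorem map_eq_bot_iff' (e : G ≃* H) (K : Subgroup G) : K.map e.toMonoidHom = ⊥ ↔ K = ⊥ := by
  constructor
  · intro h; apply map_injective' e; rw [h, Subgroup.map_bot]
  · rintro rfl; exact Subgroup.map_bot _

theorem map_top' (e : G ≃* H) : (⊤ : Subgroup G).map e.toMonoidHom = ⊤ :=
  Subgroup.map_top_of_surjective _ e.surjective

theorem map_eq_top_iff' (e : G ≃* H) (K : Subgroup G) : K.map e.toMonoidHom = ⊤ ↔ K = ⊤ := by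
  constructor
  · intro h; apply map_injective' e; rw [h, map_top']
  · rintro rfl; exact map_top' _

theorem map_inf' (e : G ≃* H) (K L : Subgroup G) :
    (K ⊓ L).map e.toMonoidHom = K.map e.toMonoidHom ⊓ L.map e.toMonoidHom :=
  Subgroup.map_inf _ _ _ e.injective

theorem map_sup' (e : G ≃* H) (K L : Subgroup G) :
    (K ⊔ L).map e.toMonoidHom = K.map e.toMonoidHom ⊔ L.map e.toMonoidHom :=
  Subgroup.map_sup _ _ _

theorem map_sSup_equiv (e : G ≃* H) (S : Set (Subgroup G)) (T : Set (Subgroup H))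
    (h : ∀ K : Subgroup G, K ∈ S ↔ K.map e.toMonoidHom ∈ T) :
    (sSup S).map e.toMonoidHom = sSup T := by
  have h1 : (sSup S).map e.toMonoidHom = e.mapSubgroup (sSup S) := rfl
  rw [h1, OrderIso.map_sSup]
  apply le_antisymm
  · refine iSup₂_le fun K hK => le_sSup ?_
    exact (h K).1 hK
  · refine sSup_le fun L hL => ?_
    have h3 : L.map e.symm.toMonoidHom ∈ S := by
      rw [h, map_map_symm]; exact hL
    have h4 : e.mapSubgroup (L.map e.symm.toMonoidHom) = L := map_map_symm e L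
    exact h4.ge.trans (le_iSup₂_of_le (f := fun a (_ : a ∈ S) => e.mapSubgroup a)
      (L.map e.symm.toMonoidHom) h3 le_rfl)

theorem normal_map_equiv_iff (e : G ≃* H) (K : Subgroup G) :
    (K.map e.toMonoidHom).Normal ↔ K.Normal := by
  constructor
  · intro h
    refine ⟨fun n hn g => ?_⟩
    have := h.conj_mem (e n) ((mem_map_equiv e K n).2 hn) (e g)
    rw [← mem_map_equiv e K]
    simpa using this
  · intro h
    exact h.map _ e.surjective

/-- The restriction of an isomorphism to a subgroup. -/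
def subEquiv (e : G ≃* H) (K : Subgroup G) : K ≃* K.map e.toMonoidHom := e.subgroupMap K

theorem subEquiv_coe (e : G ≃* H) (K : Subgroup G) (x : K) : ((subEquiv e K x : _) : H) = e x := rfl

theorem card_map_equiv (e : G ≃* H) (K : Subgroup G) :
    Nat.card (K.map e.toMonoidHom) = Nat.card K :=
  (Nat.card_congr (subEquiv e K).toEquiv).symm

theorem index_map_equiv' (e : G ≃* H) (K : Subgroup G) :
    (K.map e.toMonoidHom).index = K.index := by
  exact Subgroup.index_map_equiv K e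

theorem relIndex_map_equiv' (e : G ≃* H) (K L : Subgroup G) :
    (K.map e.toMonoidHom).relIndex (L.map e.toMonoidHom) = K.relIndex L := by
  rw [Subgroup.relIndex, Subgroup.relIndex, ← index_map_equiv' (subEquiv e L) (K.subgroupOf L)]
  congr 1
  ext ⟨x, hx⟩
  rw [Subgroup.mem_subgroupOf, mem_map_equiv' e, mem_map_equiv', Subgroup.mem_subgroupOf]
  rfl

theorem isNilpotent_congr (e : G ≃* H) : Group.IsNilpotent H ↔ Group.IsNilpotent G := by
  constructor
  · intro h; exact Group.nilpotent_of_mulEquiv e.symm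
  · intro h; exact Group.nilpotent_of_mulEquiv e

theorem isSolvable_congr (e : G ≃* H) : Group.IsSolvable H ↔ Group.IsSolvable G := by
  constructor
  · intro h; exact Group.isSolvable_of_surjective (f := e.symm.toMonoidHom) e.symm.surjective
  · intro h; exact Group.isSolvable_of_surjective (f := e.toMonoidHom) e.surjective

theorem isCyclic_congr (e : G ≃* H) : IsCyclic H ↔ IsCyclic G := e.isCyclic.symm

theorem isMulCommutative_congr (e : G ≃* H) : IsMulCommutative H ↔ IsMulCommutative G := by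
  constructor
  · intro h
    exact ⟨⟨fun a b => e.injective (by rw [map_mul, map_mul]; exact mul_comm' (e a) (e b))⟩⟩
  · intro h
    exact ⟨⟨fun a b => e.symm.injective (by rw [map_mul, map_mul]; exact mul_comm' (e.symm a) (e.symm b))⟩⟩

theorem map_commutator' (e : G ≃* H) (K L : Subgroup G) :
    ⁅K.map e.toMonoidHom, L.map e.toMonoidHom⁆ = ⁅K, L⁆.map e.toMonoidHom :=
  (Subgroup.map_commutator K L e.toMonoidHom).symm

theorem centralizer_image (e : G ≃* H) (X : Set G) :
    Subgroup.centralizer (e '' X) = (Subgroup.centralizer X).map e.toMonoidHom := by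
  ext y
  rw [mem_map_equiv', Subgroup.mem_centralizer_iff, Subgroup.mem_centralizer_iff]
  constructor
  · intro h x hx
    apply e.injective
    have := h (e x) ⟨x, hx, rfl⟩
    simpa using this
  · rintro h _ ⟨x, hx, rfl⟩
    have := congrArg e (h x hx)
    simpa using this

theorem coe_map' (e : G ≃* H) (K : Subgroup G) :
    ((K.map e.toMonoidHom : Subgroup H) : Set H) = e '' (K : Set G) := rfl

theorem centralizer_singleton' (e : G ≃* H) (x : G) :
    Subgroup.centralizer ({e x} : Set H) = (Subgroup.centralizer ({x} : Set G)).map e.toMonoidHom := by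
  rw [← centralizer_image, Set.image_singleton]

theorem centralizer_map (e : G ≃* H) (K : Subgroup G) :
    Subgroup.centralizer ((K.map e.toMonoidHom : Subgroup H) : Set H) =
      (Subgroup.centralizer (K : Set G)).map e.toMonoidHom := by
  rw [coe_map', centralizer_image]

theorem normalizer_image (e : G ≃* H) (X : Set G) :
    Subgroup.normalizer (e '' X) = (Subgroup.normalizer X).map e.toMonoidHom := by
  ext y
  rw [mem_map_equiv', Subgroup.mem_set_normalizer_iff, Subgroup.mem_set_normalizer_iff]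
  constructor
  · intro h x
    have := h (e x)
    have h1 : y * e x * y⁻¹ = e (e.symm y * x * (e.symm y)⁻¹) := by simp
    rw [h1, e.injective.mem_set_image, e.injective.mem_set_image] at this
    exact this
  · intro h z
    have := h (e.symm z)
    have h1 : y * z * y⁻¹ = e (e.symm y * e.symm z * (e.symm y)⁻¹) := by simp
    have h2 : z = e (e.symm z) := by simp
    rw [h1, e.injective.mem_set_image]
    conv_lhs => rw [h2]
    rw [e.injective.mem_set_image]
    exact this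

theorem normalizer_map (e : G ≃* H) (K : Subgroup G) :
    Subgroup.normalizer ((K.map e.toMonoidHom : Subgroup H) : Set H) =
      (Subgroup.normalizer (K : Set G)).map e.toMonoidHom := by
  rw [coe_map', normalizer_image]

theorem isCoatom_map (e : G ≃* H) (K : Subgroup G) : IsCoatom (K.map e.toMonoidHom) ↔ IsCoatom K :=
  e.mapSubgroup.isCoatom_iff K

/-! ### The cores -/

theorem fittingHall_map (e : G ≃* H) : (fittingHall G).map e.toMonoidHom = fittingHall H := by
  unfold fittingHall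
  apply map_sSup_equiv
  intro K
  simp only [Set.mem_ofPred_eq]
  rw [normal_map_equiv_iff, isNilpotent_congr (subEquiv e K), card_map_equiv, index_map_equiv']

theorem pCore_map (p : ℕ) (e : G ≃* H) : (pCore p G).map e.toMonoidHom = pCore p H := by
  unfold pCore
  apply map_sSup_equiv
  intro K
  simp only [Set.mem_ofPred_eq]
  rw [normal_map_equiv_iff]
  have : IsPGroup p K ↔ IsPGroup p (K.map e.toMonoidHom) :=
    ⟨fun h => h.of_equiv (subEquiv e K), fun h => h.of_equiv (subEquiv e K).symm⟩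
  rw [this]

theorem pPrimeCore_map (p : ℕ) (e : G ≃* H) :
    (pPrimeCore p G).map e.toMonoidHom = pPrimeCore p H := by
  unfold pPrimeCore
  apply map_sSup_equiv
  intro K
  simp only [Set.mem_ofPred_eq]
  rw [normal_map_equiv_iff, card_map_equiv]

theorem fittingSubgroup_map (e : G ≃* H) :
    (fittingSubgroup G).map e.toMonoidHom = fittingSubgroup H := by
  unfold fittingSubgroup
  apply map_sSup_equiv
  intro K
  simp only [Set.mem_ofPred_eq]
  rw [normal_map_equiv_iff, isNilpotent_congr (subEquiv e K)]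

/-- Transport of "a subgroup of `K`, seen in `G`". -/
theorem map_subtype_transport (e : G ≃* H) (K : Subgroup G) (L : Subgroup K) :
    (L.map (subEquiv e K).toMonoidHom).map (K.map e.toMonoidHom).subtype =
      (L.map K.subtype).map e.toMonoidHom := by
  rw [Subgroup.map_map, Subgroup.map_map]
  rfl

theorem fittingHallOf_map (e : G ≃* H) (M : Subgroup G) :
    fittingHallOf (M.map e.toMonoidHom) = (fittingHallOf M).map e.toMonoidHom := by
  unfold fittingHallOf
  rw [← fittingHall_map (subEquiv e M), map_subtype_transport]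

theorem fittingOf_map (e : G ≃* H) (M : Subgroup G) :
    fittingOf (M.map e.toMonoidHom) = (fittingOf M).map e.toMonoidHom := by
  unfold fittingOf
  rw [← fittingSubgroup_map (subEquiv e M), map_subtype_transport]

/-! ### Ranks, TI-subsets, complements, exponents -/

theorem pRankLE_congr (p k : ℕ) (e : G ≃* H) : PRankLE p k H ↔ PRankLE p k G := by
  have key : ∀ {A B : Type u} [Group A] [Group B] (f : A ≃* B), PRankLE p k A → PRankLE p k B := by
    intro A B _ _ f h K hK hKp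
    rw [← card_map_equiv f.symm K]
    apply h
    · exact (isMulCommutative_congr (subEquiv f.symm K)).2 hK
    · intro a ha
      rw [mem_map_equiv'] at ha
      have := hKp _ ha
      apply f.injective
      simpa using this
  exact ⟨key e.symm, key e⟩

theorem rankLE_congr (k : ℕ) (e : G ≃* H) : RankLE k H ↔ RankLE k G := by
  unfold RankLE
  exact forall_congr' fun p => forall_congr' fun _ => pRankLE_congr p k e

theorem isTISubset_image (e : G ≃* H) (X : Set G) : IsTISubset (e '' X) ↔ IsTISubset X := by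
  unfold IsTISubset
  constructor
  · intro h g hg x hx hgx
    have h1 : e g ∉ Subgroup.normalizer (e '' X) := by
      rw [normalizer_image, mem_map_equiv]; exact hg
    have h2 := h (e g) h1 (e x) ⟨x, hx, rfl⟩ ⟨g * x * g⁻¹, hgx, by simp⟩
    exact e.injective (by rw [h2, map_one])
  · rintro h g hg _ ⟨x, hx, rfl⟩ ⟨y, hy, hyx⟩
    have h1 : e.symm g ∉ Subgroup.normalizer X := by
      rw [normalizer_image, mem_map_equiv'] at hg; exact hg
    have h2 : e.symm g * x * (e.symm g)⁻¹ = y := by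
      apply e.injective; rw [hyx]; simp
    have h3 := h _ h1 x hx (h2 ▸ hy)
    rw [h3, map_one]

theorem isTISubset_map (e : G ≃* H) (K : Subgroup G) :
    IsTISubset ((K.map e.toMonoidHom : Subgroup H) : Set H) ↔ IsTISubset (K : Set G) := by
  rw [coe_map', isTISubset_image]

theorem isComplIn_map (e : G ≃* H) (A B M : Subgroup G) :
    IsComplIn (A.map e.toMonoidHom) (B.map e.toMonoidHom) (M.map e.toMonoidHom) ↔
      IsComplIn A B M := by
  unfold IsComplIn
  rw [map_le_map_iff', map_le_map_iff', ← map_inf', map_eq_bot_iff']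
  constructor
  · rintro ⟨h1, h2, h3, h4⟩
    refine ⟨h1, h2, h3, fun m hm => ?_⟩
    obtain ⟨a, ha, b, hb, hab⟩ := h4 (e m) ((mem_map_equiv e M m).2 hm)
    refine ⟨e.symm a, (mem_map_equiv' e A a).1 ha, e.symm b, (mem_map_equiv' e B b).1 hb, ?_⟩
    apply e.injective; rw [hab]; simp
  · rintro ⟨h1, h2, h3, h4⟩
    refine ⟨h1, h2, h3, fun m hm => ?_⟩
    obtain ⟨a, ha, b, hb, hab⟩ := h4 (e.symm m) ((mem_map_equiv' e M m).1 hm)
    refine ⟨e a, (mem_map_equiv e A a).2 ha, e b, (mem_map_equiv e B b).2 hb, ?_⟩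
    rw [← map_mul, ← hab]; simp

theorem isComplement'_map (e : G ≃* H) (A B : Subgroup G) (h : Subgroup.IsComplement' A B) :
    Subgroup.IsComplement' (A.map e.toMonoidHom) (B.map e.toMonoidHom) := by
  have h1 : Function.Bijective fun x : ↥(A : Set G) × ↥(B : Set G) => (x.1.1 * x.2.1 : G) := h
  constructor
  · rintro ⟨⟨a, ha⟩, ⟨b, hb⟩⟩ ⟨⟨a', ha'⟩, ⟨b', hb'⟩⟩ hab
    have ha1 := (mem_map_equiv' e A a).1 ha
    have hb1 := (mem_map_equiv' e B b).1 hb
    have ha1' := (mem_map_equiv' e A a').1 ha'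
    have hb1' := (mem_map_equiv' e B b').1 hb'
    have hab' : e.symm a * e.symm b = e.symm a' * e.symm b' := by
      rw [← map_mul, ← map_mul]; exact congrArg e.symm hab
    have := h1.injective (a₁ := (⟨e.symm a, ha1⟩, ⟨e.symm b, hb1⟩))
      (a₂ := (⟨e.symm a', ha1'⟩, ⟨e.symm b', hb1'⟩)) hab'
    have h2 : e.symm a = e.symm a' := congrArg (fun z => (z.1.1 : G)) this
    have h3 : e.symm b = e.symm b' := congrArg (fun z => (z.2.1 : G)) this
    have h4 := e.symm.injective h2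
    have h5 := e.symm.injective h3
    subst h4; subst h5; rfl
  · intro y
    obtain ⟨⟨⟨a, ha⟩, ⟨b, hb⟩⟩, hab⟩ := h1.surjective (e.symm y)
    refine ⟨(⟨e a, (mem_map_equiv e A a).2 ha⟩, ⟨e b, (mem_map_equiv e B b).2 hb⟩), ?_⟩
    have hab' : a * b = e.symm y := hab
    change e a * e b = y
    rw [← map_mul, hab']; simp

theorem exponent_congr (e : G ≃* H) : Monoid.exponent H = Monoid.exponent G :=
  (Monoid.exponent_eq_of_mulEquiv e).symm

theorem exponent_quotient_congr (e : G ≃* H) (N : Subgroup G) [N.Normal] (N' : Subgroup H)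
    [N'.Normal] (h : N.map e.toMonoidHom = N') :
    Monoid.exponent (H ⧸ N') = Monoid.exponent (G ⧸ N) :=
  (Monoid.exponent_eq_of_mulEquiv (QuotientGroup.congr N N' e h)).symm

/-! ### Type F -/

theorem isOfTypeF_of_equiv (e : G ≃* H) (h : IsOfTypeF G) : IsOfTypeF H := by
  obtain ⟨h1, h2, h3, h4, U, hU1, hU2, ⟨U₁, hU₁a, hU₁b, hU₁c, hU₁d⟩, ⟨U₀, hU₀a, hU₀b, hU₀c⟩⟩ := h
  refine ⟨(isSolvable_congr e).2 h1, ?_, ?_, ?_, U.map e.toMonoidHom, ?_, ?_, ?_, ?_⟩
  · rwa [← Nat.card_congr e.toEquiv]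
  · rw [← fittingHall_map e, Ne, map_eq_bot_iff']; exact h3
  · rw [← fittingHall_map e, Ne, map_eq_top_iff']; exact h4
  · rw [Ne, map_eq_bot_iff']; exact hU1
  · rw [← fittingHall_map e]; exact isComplement'_map e _ _ hU2
  · refine ⟨U₁.map e.toMonoidHom, (map_le_map_iff' e _ _).2 hU₁a, ?_, ?_, ?_⟩
    · rw [normalizer_map, map_le_map_iff']; exact hU₁b
    · exact (isMulCommutative_congr (subEquiv e U₁)).2 hU₁c
    · intro x hx hx1
      rw [← fittingHall_map e, mem_map_equiv'] at hx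
      have hx1' : e.symm x ≠ 1 := by simpa using hx1
      have := hU₁d _ hx hx1'
      have h5 : ({x} : Set H) = {e (e.symm x)} := by simp
      rw [h5, centralizer_singleton', ← map_inf', map_le_map_iff']
      exact this
  · refine ⟨U₀.map e.toMonoidHom, (map_le_map_iff' e _ _).2 hU₀a, ?_, ?_⟩
    · rw [exponent_congr (subEquiv e U₀), exponent_congr (subEquiv e U), hU₀b]
    · intro u hu hu1 x hx hux
      rw [← fittingHall_map e, mem_map_equiv'] at hx
      rw [mem_map_equiv'] at hu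
      have hu1' : e.symm u ≠ 1 := by simpa using hu1
      have := hU₀c _ hu hu1' _ hx (by rw [← map_mul, hux, map_mul])
      simpa using this

theorem isOfTypeF_congr (e : G ≃* H) : IsOfTypeF H ↔ IsOfTypeF G :=
  ⟨isOfTypeF_of_equiv e.symm, isOfTypeF_of_equiv e⟩

/-! ### Type I -/

theorem isOfTypeI_map_of (e : G ≃* H) (M : Subgroup G) (h : IsOfTypeI M) :
    IsOfTypeI (M.map e.toMonoidHom) := by
  obtain ⟨hF, h⟩ := h
  refine ⟨(isOfTypeF_congr (subEquiv e M)).2 hF, ?_⟩
  rw [fittingHallOf_map]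
  rcases h with h | ⟨h1, h2, h3⟩ | ⟨h1, h2⟩
  · left; exact (isTISubset_map e _).2 h
  · right; left
    refine ⟨(isMulCommutative_congr (subEquiv e _)).2 h1, (rankLE_congr _ (subEquiv e _)).2 h2, ?_⟩
    rw [rankLE_congr _ (subEquiv e _)]; exact h3
  · right; right
    rw [card_map_equiv]
    refine ⟨fun p hp hpd => ?_, ?_⟩
    · rw [exponent_quotient_congr (subEquiv e M) (fittingHall M) _ (fittingHall_map (subEquiv e M))]
      exact h1 p hp hpd
    · obtain ⟨p, hp, hpd, hc⟩ := h2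
      refine ⟨p, hp, hpd, ?_⟩
      rw [← pPrimeCore_map p (subEquiv e M), isCyclic_congr (subEquiv (subEquiv e M) _)]
      exact hc

theorem isOfTypeI_map (e : G ≃* H) (M : Subgroup G) :
    IsOfTypeI (M.map e.toMonoidHom) ↔ IsOfTypeI M := by
  refine ⟨fun h => ?_, isOfTypeI_map_of e M⟩
  have := isOfTypeI_map_of e.symm _ h
  rwa [map_symm_map] at this

/-! ### Type P -/

theorem isSelfNormalizingCyclic_map (e : G ≃* H) (W₁ W₂ : Subgroup G)
    (h : IsSelfNormalizingCyclic W₁ W₂) :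
    IsSelfNormalizingCyclic (W₁.map e.toMonoidHom) (W₂.map e.toMonoidHom) := by
  obtain ⟨h1, h2, h3, h4, h5, h6⟩ := h
  refine ⟨?_, ?_, ?_, ?_, ?_, ?_⟩
  · rw [Ne, map_eq_bot_iff']; exact h1
  · rw [Ne, map_eq_bot_iff']; exact h2
  · rw [← map_inf', map_eq_bot_iff']; exact h3
  · intro a ha b hb
    rw [mem_map_equiv'] at ha hb
    have := congrArg e (h4 _ ha _ hb)
    simpa using this
  · rw [← map_sup']
    exact (isCyclic_congr (subEquiv e _)).2 h5
  · intro X hX hXn
    have hXe : X = e '' (e.symm '' X) := by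
      rw [Set.image_image]; simp
    rw [← map_sup'] at hX ⊢
    have hX' : e.symm '' X ⊆ (↑(W₁ ⊔ W₂) : Set G) \ (↑W₁ ∪ ↑W₂) := by
      rintro _ ⟨x, hx, rfl⟩
      obtain ⟨hx1, hx2⟩ := hX hx
      refine ⟨(mem_map_equiv' e _ x).1 hx1, fun hx3 => hx2 ?_⟩
      rcases hx3 with hx3 | hx3
      · left; exact (mem_map_equiv' e _ x).2 hx3
      · right; exact (mem_map_equiv' e _ x).2 hx3
    have := h6 _ hX' (hXn.image _)
    rw [hXe, normalizer_image, this]

theorem isTypePWith_map_of (e : G ≃* H) (M W₁ U W₂ : Subgroup G) (h : IsTypePWith M W₁ U W₂) :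
    IsTypePWith (M.map e.toMonoidHom) (W₁.map e.toMonoidHom) (U.map e.toMonoidHom)
      (W₂.map e.toMonoidHom) := by
  refine
  { W₁_ne := ?_, W₁_cyclic := ?_, W₁_hall := ?_, W₁_compl := ?_, U_nilpotent := ?_, U_normal := ?_,
    U_compl := ?_, H_not_cyclic := ?_, derived_two_le := ?_, fitting_eq := ?_, fitting_le := ?_,
    W₂_le := ?_, W₂_centralizer := ?_, selfNormalizing := ?_ }
  · rw [Ne, map_eq_bot_iff']; exact h.W₁_ne
  · exact (isCyclic_congr (subEquiv e _)).2 h.W₁_cyclic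
  · rw [card_map_equiv, relIndex_map_equiv']; exact h.W₁_hall
  · rw [map_commutator', isComplIn_map]; exact h.W₁_compl
  · exact (isNilpotent_congr (subEquiv e _)).2 h.U_nilpotent
  · rw [normalizer_map, map_le_map_iff']; exact h.U_normal
  · rw [map_commutator', fittingHallOf_map, isComplIn_map]; exact h.U_compl
  · rw [fittingHallOf_map, isCyclic_congr (subEquiv e _)]; exact h.H_not_cyclic
  · rw [map_commutator', map_commutator', fittingHallOf_map, centralizer_map, ← map_inf',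
      ← map_sup', map_le_map_iff']
    exact h.derived_two_le
  · rw [fittingHallOf_map, centralizer_map, ← map_inf', ← map_sup', h.fitting_eq, fittingOf_map]
  · rw [map_commutator', fittingOf_map, map_le_map_iff']; exact h.fitting_le
  · rw [map_commutator', map_commutator', fittingHallOf_map, ← map_inf', map_le_map_iff']
    exact h.W₂_le
  · intro x hx hx1
    rw [mem_map_equiv'] at hx
    have hx1' : e.symm x ≠ 1 := by simpa using hx1
    have h5 : ({x} : Set H) = {e (e.symm x)} := by simp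
    rw [h5, centralizer_singleton', map_commutator', ← map_inf', h.W₂_centralizer _ hx hx1']
  · exact isSelfNormalizingCyclic_map e _ _ h.selfNormalizing

theorem isTypePWith_map (e : G ≃* H) (M W₁ U W₂ : Subgroup G) :
    IsTypePWith (M.map e.toMonoidHom) (W₁.map e.toMonoidHom) (U.map e.toMonoidHom)
      (W₂.map e.toMonoidHom) ↔ IsTypePWith M W₁ U W₂ := by
  refine ⟨fun h => ?_, isTypePWith_map_of e M W₁ U W₂⟩
  have := isTypePWith_map_of e.symm _ _ _ _ h
  rwa [map_symm_map, map_symm_map, map_symm_map, map_symm_map] at this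

theorem isOfTypeP_map_of (e : G ≃* H) (M : Subgroup G) (h : IsOfTypeP M) :
    IsOfTypeP (M.map e.toMonoidHom) := by
  obtain ⟨W₁, U, W₂, h⟩ := h
  exact ⟨_, _, _, isTypePWith_map_of e _ _ _ _ h⟩

theorem isOfTypeP_map (e : G ≃* H) (M : Subgroup G) :
    IsOfTypeP (M.map e.toMonoidHom) ↔ IsOfTypeP M := by
  refine ⟨fun h => ?_, isOfTypeP_map_of e M⟩
  have := isOfTypeP_map_of e.symm _ h
  rwa [map_symm_map] at this

theorem isOfTypeII_map_of (e : G ≃* H) (M : Subgroup G) (h : IsOfTypeII M) :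
    IsOfTypeII (M.map e.toMonoidHom) := by
  obtain ⟨W₁, U, W₂, h, h1, h2, h3, h4, h5, h6, h7⟩ := h
  refine ⟨_, _, _, isTypePWith_map_of e _ _ _ _ h, ?_, ?_, ?_, ?_, ?_, ?_, ?_⟩
  · rw [Ne, map_eq_bot_iff']; exact h1
  · rw [card_map_equiv]; exact h2
  · rw [fittingOf_map]; exact (isTISubset_map e _).2 h3
  · exact (isMulCommutative_congr (subEquiv e _)).2 h4
  · rw [normalizer_map, map_le_map_iff']; exact h5
  · rw [map_commutator']; exact (isOfTypeF_congr (subEquiv e _)).2 h6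
  · rw [map_commutator', fittingHallOf_map, fittingHallOf_map, h7]

theorem isOfTypeII_map (e : G ≃* H) (M : Subgroup G) :
    IsOfTypeII (M.map e.toMonoidHom) ↔ IsOfTypeII M := by
  refine ⟨fun h => ?_, isOfTypeII_map_of e M⟩
  have := isOfTypeII_map_of e.symm _ h
  rwa [map_symm_map] at this

theorem isOfTypeIII_map_of (e : G ≃* H) (M : Subgroup G) (h : IsOfTypeIII M) :
    IsOfTypeIII (M.map e.toMonoidHom) := by
  obtain ⟨W₁, U, W₂, h, h1, h2, h3, h4, h5⟩ := h
  refine ⟨_, _, _, isTypePWith_map_of e _ _ _ _ h, ?_, ?_, ?_, ?_, ?_⟩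
  · rw [Ne, map_eq_bot_iff']; exact h1
  · rw [card_map_equiv]; exact h2
  · rw [fittingOf_map]; exact (isTISubset_map e _).2 h3
  · exact (isMulCommutative_congr (subEquiv e _)).2 h4
  · rw [normalizer_map, map_le_map_iff']; exact h5

theorem isOfTypeIII_map (e : G ≃* H) (M : Subgroup G) :
    IsOfTypeIII (M.map e.toMonoidHom) ↔ IsOfTypeIII M := by
  refine ⟨fun h => ?_, isOfTypeIII_map_of e M⟩
  have := isOfTypeIII_map_of e.symm _ h
  rwa [map_symm_map] at this

theorem isOfTypeIV_map_of (e : G ≃* H) (M : Subgroup G) (h : IsOfTypeIV M) :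
    IsOfTypeIV (M.map e.toMonoidHom) := by
  obtain ⟨W₁, U, W₂, h, h1, h2, h3, h4, h5⟩ := h
  refine ⟨_, _, _, isTypePWith_map_of e _ _ _ _ h, ?_, ?_, ?_, ?_, ?_⟩
  · rw [Ne, map_eq_bot_iff']; exact h1
  · rw [card_map_equiv]; exact h2
  · rw [fittingOf_map]; exact (isTISubset_map e _).2 h3
  · rw [isMulCommutative_congr (subEquiv e _)]; exact h4
  · rw [normalizer_map, map_le_map_iff']; exact h5

theorem isOfTypeIV_map (e : G ≃* H) (M : Subgroup G) :
    IsOfTypeIV (M.map e.toMonoidHom) ↔ IsOfTypeIV M := by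
  refine ⟨fun h => ?_, isOfTypeIV_map_of e M⟩
  have := isOfTypeIV_map_of e.symm _ h
  rwa [map_symm_map] at this

theorem isOfTypeV_map_of (e : G ≃* H) (M : Subgroup G) (h : IsOfTypeV M) :
    IsOfTypeV (M.map e.toMonoidHom) := by
  obtain ⟨W₁, U, W₂, h, h1, h2⟩ := h
  refine ⟨_, _, _, isTypePWith_map_of e _ _ _ _ h, ?_, ?_⟩
  · rw [map_eq_bot_iff']; exact h1
  · rw [fittingHallOf_map, card_map_equiv, card_map_equiv]
    have e1 := subEquiv e (fittingHallOf M)
    rcases h2 with h2 | ⟨p, hp, hpd, h3, h4⟩ | ⟨p, hp, hpd, h3, h4, h5⟩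
    · left; exact (isTISubset_map e _).2 h2
    · right; left
      refine ⟨p, hp, hpd, h3, ?_⟩
      rw [← pPrimeCore_map p e1, isCyclic_congr (subEquiv e1 _)]
      exact h4
    · right; right
      refine ⟨p, hp, hpd, ?_, h4, ?_⟩
      · rw [← pCore_map p e1, card_map_equiv]; exact h3
      · rw [← pPrimeCore_map p e1, isCyclic_congr (subEquiv e1 _)]
        exact h5

theorem isOfTypeV_map (e : G ≃* H) (M : Subgroup G) :
    IsOfTypeV (M.map e.toMonoidHom) ↔ IsOfTypeV M := by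
  refine ⟨fun h => ?_, isOfTypeV_map_of e M⟩
  have := isOfTypeV_map_of e.symm _ h
  rwa [map_symm_map] at this

/-! ### The sets attached to a maximal subgroup -/

theorem typeCore_map (e : G ≃* H) (M : Subgroup G) :
    typeCore (M.map e.toMonoidHom) = (typeCore M).map e.toMonoidHom := by
  classical
  unfold typeCore
  rw [isOfTypeIII_map, isOfTypeIV_map]
  split_ifs
  · rw [map_commutator']
  · rw [fittingHallOf_map]

theorem typeA1_map (e : G ≃* H) (M : Subgroup G) :
    typeA1 (M.map e.toMonoidHom) = e '' (typeA1 M) := by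
  unfold typeA1
  rw [typeCore_map, Set.image_sdiff e.injective, Set.image_singleton, map_one]
  rfl

theorem mem_image_equiv' (e : G ≃* H) (X : Set G) (y : H) : y ∈ e '' X ↔ e.symm y ∈ X := by
  constructor
  · rintro ⟨x, hx, rfl⟩; simpa using hx
  · intro h; exact ⟨_, h, by simp⟩

theorem typeA_map (e : G ≃* H) (M : Subgroup G) :
    typeA (M.map e.toMonoidHom) = e '' (typeA M) := by
  classical
  have key : ∀ (K L : Subgroup G), {a : H | a ∈ K.map e.toMonoidHom ∧ a ≠ 1 ∧
      ∃ x ∈ L.map e.toMonoidHom, x ≠ 1 ∧ a * x = x * a} =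
      e '' {a | a ∈ K ∧ a ≠ 1 ∧ ∃ x ∈ L, x ≠ 1 ∧ a * x = x * a} := by
    intro K L
    ext a
    rw [mem_image_equiv']
    simp only [Set.mem_ofPred_eq]
    rw [mem_map_equiv']
    refine and_congr Iff.rfl (and_congr ?_ ?_)
    · simp
    · constructor
      · rintro ⟨x, hx, hx1, hax⟩
        refine ⟨e.symm x, (mem_map_equiv' e L x).1 hx, by simpa using hx1, ?_⟩
        rw [← map_mul, ← map_mul, hax]
      · rintro ⟨x, hx, hx1, hax⟩
        refine ⟨e x, (mem_map_equiv e L x).2 hx, by simpa using hx1, ?_⟩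
        have := congrArg e hax
        simpa using this
  unfold typeA
  rw [isOfTypeI_map]
  split_ifs
  · rw [fittingHallOf_map]; exact key _ _
  · rw [map_commutator', typeCore_map]; exact key _ _

theorem typeA0_map_subset (e : G ≃* H) (M : Subgroup G) :
    e '' (typeA0 M) ⊆ typeA0 (M.map e.toMonoidHom) := by
  rintro _ ⟨v, hv, rfl⟩
  rcases hv with hv | ⟨hI, W₁, U, W₂, hP, m, hm, w, hw, hw1, hw2, rfl⟩
  · left; rw [typeA_map]; exact ⟨v, hv, rfl⟩
  · right
    refine ⟨by rwa [isOfTypeI_map], _, _, _, isTypePWith_map_of e _ _ _ _ hP, e m,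
      (mem_map_equiv e M m).2 hm, e w, ?_, ?_, ?_, by simp⟩
    · rw [← map_sup', mem_map_equiv]; exact hw
    · rw [mem_map_equiv]; exact hw1
    · rw [mem_map_equiv]; exact hw2

theorem typeA0_map (e : G ≃* H) (M : Subgroup G) :
    typeA0 (M.map e.toMonoidHom) = e '' (typeA0 M) := by
  refine Set.Subset.antisymm ?_ (typeA0_map_subset e M)
  intro x hx
  rw [mem_image_equiv']
  have := typeA0_map_subset e.symm (M.map e.toMonoidHom) ⟨x, hx, rfl⟩
  rwa [map_symm_map] at this

theorem supportR_eq (M : Subgroup G) (x : G) (L : Subgroup G)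
    (h1 : ¬ Subgroup.centralizer ({x} : Set G) ≤ M) (hL : IsCoatom L)
    (hxL : Subgroup.centralizer ({x} : Set G) ≤ L)
    (huniq : ∀ L' : Subgroup G, IsCoatom L' → Subgroup.centralizer ({x} : Set G) ≤ L' → L' = L) :
    supportR M x = fittingHallOf L ⊓ Subgroup.centralizer ({x} : Set G) := by
  classical
  have h2 : ∃! L : Subgroup G, IsCoatom L ∧ Subgroup.centralizer ({x} : Set G) ≤ L :=
    ⟨L, ⟨hL, hxL⟩, fun L' h => huniq L' h.1 h.2⟩
  unfold supportR
  rw [dif_pos ⟨h1, h2⟩]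
  have h3 := Classical.choose_spec h2.exists
  rw [huniq _ h3.1 h3.2]

theorem supportR_eq_bot_of_le (M : Subgroup G) (x : G)
    (h1 : Subgroup.centralizer ({x} : Set G) ≤ M) : supportR M x = ⊥ := by
  classical
  unfold supportR
  rw [dif_neg]
  rintro ⟨h, -⟩
  exact h h1

theorem supportR_eq_bot_of_not_unique (M : Subgroup G) (x : G)
    (h1 : ¬ ∃! L : Subgroup G, IsCoatom L ∧ Subgroup.centralizer ({x} : Set G) ≤ L) :
    supportR M x = ⊥ := by
  classical
  unfold supportR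
  rw [dif_neg]
  rintro ⟨-, h⟩
  exact h1 h

theorem supportR_map (e : G ≃* H) (M : Subgroup G) (x : G) :
    supportR (M.map e.toMonoidHom) (e x) = (supportR M x).map e.toMonoidHom := by
  classical
  by_cases h1 : Subgroup.centralizer ({x} : Set G) ≤ M
  · rw [supportR_eq_bot_of_le M x h1, Subgroup.map_bot]
    apply supportR_eq_bot_of_le
    rw [centralizer_singleton', map_le_map_iff']; exact h1
  · by_cases h2 : ∃! L : Subgroup G, IsCoatom L ∧ Subgroup.centralizer ({x} : Set G) ≤ L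
    · obtain ⟨L, ⟨hL, hxL⟩, huniq⟩ := h2
      rw [supportR_eq M x L h1 hL hxL (fun L' h h' => huniq L' ⟨h, h'⟩),
        supportR_eq (M.map e.toMonoidHom) (e x) (L.map e.toMonoidHom), fittingHallOf_map,
        centralizer_singleton', map_inf']
      · rw [centralizer_singleton', map_le_map_iff']; exact h1
      · rw [isCoatom_map]; exact hL
      · rw [centralizer_singleton', map_le_map_iff']; exact hxL
      · intro L' hL' hxL'
        have h3 : L'.map e.symm.toMonoidHom = L := by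
          apply huniq
          refine ⟨(isCoatom_map e.symm L').2 hL', ?_⟩
          rw [← map_le_map_iff' e, map_map_symm, ← centralizer_singleton']
          exact hxL'
        rw [← h3, map_map_symm]
    · rw [supportR_eq_bot_of_not_unique M x h2, Subgroup.map_bot]
      apply supportR_eq_bot_of_not_unique
      rintro ⟨L', ⟨hL', hxL'⟩, huniq⟩
      apply h2
      refine ⟨L'.map e.symm.toMonoidHom, ⟨(isCoatom_map e.symm L').2 hL', ?_⟩, ?_⟩
      · rw [← map_le_map_iff' e, map_map_symm, ← centralizer_singleton']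
        exact hxL'
      · rintro L ⟨hL, hxL⟩
        have : L.map e.toMonoidHom = L' := by
          apply huniq
          refine ⟨(isCoatom_map e L).2 hL, ?_⟩
          rw [centralizer_singleton', map_le_map_iff']; exact hxL
        rw [← this, map_symm_map]

theorem supports_map_of (e : G ≃* H) (L M : Subgroup G) (h : Supports L M) :
    Supports (L.map e.toMonoidHom) (M.map e.toMonoidHom) := by
  obtain ⟨hL, x, hx, h1, h2⟩ := h
  refine ⟨(isCoatom_map e L).2 hL, e x, ?_, ?_, ?_⟩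
  · rw [typeA0_map]; exact ⟨x, hx, rfl⟩
  · rw [centralizer_singleton', map_le_map_iff']; exact h1
  · rw [centralizer_singleton', map_le_map_iff']; exact h2

theorem supports_map (e : G ≃* H) (L M : Subgroup G) :
    Supports (L.map e.toMonoidHom) (M.map e.toMonoidHom) ↔ Supports L M := by
  refine ⟨fun h => ?_, supports_map_of e L M⟩
  have := supports_map_of e.symm _ _ h
  rwa [map_symm_map, map_symm_map] at this

theorem tildeOf_map_subset (e : G ≃* H) (M : Subgroup G) (A : Set G) :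
    e '' tildeOf M A ⊆ tildeOf (M.map e.toMonoidHom) (e '' A) := by
  rintro _ ⟨g, ⟨a, ha, r, hr, y, rfl⟩, rfl⟩
  refine ⟨e a, ⟨a, ha, rfl⟩, e r, ?_, e y, by simp⟩
  rw [supportR_map, mem_map_equiv]; exact hr

theorem tildeOf_map (e : G ≃* H) (M : Subgroup G) (A : Set G) :
    tildeOf (M.map e.toMonoidHom) (e '' A) = e '' tildeOf M A := by
  refine Set.Subset.antisymm ?_ (tildeOf_map_subset e M A)
  intro x hx
  rw [mem_image_equiv']
  have := tildeOf_map_subset e.symm (M.map e.toMonoidHom) (e '' A) ⟨x, hx, rfl⟩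
  rw [map_symm_map] at this
  have h2 : e.symm '' (e '' A) = A := by rw [Set.image_image]; simp
  rwa [h2] at this

end Cfsg.Agent.OddOrderCharacters.TypeEquivariance
end

-- part: OddOrderCharacters/PF8/TypeP
section
/-!
# Peterfalvi, Section 8: type P data in an arbitrary finite group
-/

set_option autoImplicit false

open Cfsg
open scoped commutatorElement

namespace Cfsg.Agent.OddOrderCharacters.PF8

open Cfsg.Agent.OddOrderCharacters.PFDefs
open Cfsg.Agent.OddOrderLocal.FittingHall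

universe u

section typeP

variable {G : Type u} [Group G] {M W₁ U W₂ : Subgroup G}

theorem W₁_le (h : IsTypePWith M W₁ U W₂) : W₁ ≤ M := h.W₁_compl.2.1

theorem derived_le (M : Subgroup G) : ⁅M, M⁆ ≤ M := Subgroup.commutator_le_self M

theorem U_le (h : IsTypePWith M W₁ U W₂) : U ≤ ⁅M, M⁆ := h.U_compl.2.1

theorem U_le_M (h : IsTypePWith M W₁ U W₂) : U ≤ M := (U_le h).trans (derived_le M)

theorem fittingHallOf_le_derived' (h : IsTypePWith M W₁ U W₂) : fittingHallOf M ≤ ⁅M, M⁆ :=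
  h.U_compl.1

theorem W₂_le_fittingHallOf (h : IsTypePWith M W₁ U W₂) : W₂ ≤ fittingHallOf M :=
  h.W₂_le.trans inf_le_left

theorem W₂_le_derived_two (h : IsTypePWith M W₁ U W₂) : W₂ ≤ ⁅⁅M, M⁆, ⁅M, M⁆⁆ :=
  h.W₂_le.trans inf_le_right

theorem W₂_le_derived (h : IsTypePWith M W₁ U W₂) : W₂ ≤ ⁅M, M⁆ :=
  (W₂_le_fittingHallOf h).trans (fittingHallOf_le_derived' h)

theorem W₂_le (h : IsTypePWith M W₁ U W₂) : W₂ ≤ M := (W₂_le_derived h).trans (derived_le M)

theorem W_le (h : IsTypePWith M W₁ U W₂) : W₁ ⊔ W₂ ≤ M := sup_le (W₁_le h) (W₂_le h)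

theorem W₂_ne (h : IsTypePWith M W₁ U W₂) : W₂ ≠ ⊥ := h.selfNormalizing.2.1

theorem W_cyclic (h : IsTypePWith M W₁ U W₂) : IsCyclic ↥(W₁ ⊔ W₂) :=
  h.selfNormalizing.2.2.2.2.1

theorem isCyclic_of_le {A B : Subgroup G} (hAB : A ≤ B) (hB : IsCyclic B) : IsCyclic A :=
  isCyclic_of_injective (Subgroup.inclusion hAB) (Subgroup.inclusion_injective hAB)

theorem W₂_cyclic (h : IsTypePWith M W₁ U W₂) : IsCyclic W₂ :=
  isCyclic_of_le le_sup_right (W_cyclic h)

theorem W_comm (h : IsTypePWith M W₁ U W₂) : ∀ a ∈ W₁, ∀ b ∈ W₂, a * b = b * a :=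
  h.selfNormalizing.2.2.2.1

theorem W_inf (h : IsTypePWith M W₁ U W₂) : W₁ ⊓ W₂ = ⊥ := h.selfNormalizing.2.2.1

/-- Elements of `W` are products. -/
theorem mem_W_iff (h : IsTypePWith M W₁ U W₂) {x : G} :
    x ∈ W₁ ⊔ W₂ ↔ ∃ a ∈ W₁, ∃ b ∈ W₂, a * b = x := by
  have hn : W₁ ≤ Subgroup.normalizer (W₂ : Set G) := by
    intro a ha
    rw [Subgroup.mem_normalizer_iff]
    intro b
    have key : ∀ a ∈ W₁, ∀ b ∈ W₂, a * b * a⁻¹ ∈ W₂ := by
      intro a ha b hb
      rw [W_comm h a ha b hb, mul_assoc, mul_inv_cancel, mul_one]; exact hb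
    refine ⟨key a ha b, fun hb => ?_⟩
    have := key a⁻¹ (W₁.inv_mem ha) _ hb
    have h2 : a⁻¹ * (a * b * a⁻¹) * a⁻¹⁻¹ = b := by group
    rwa [h2] at this
  have h1 := Subgroup.coe_mul_of_left_le_normalizer_right W₁ W₂ hn
  constructor
  · intro hx
    have hx' : x ∈ (↑(W₁ ⊔ W₂) : Set G) := hx
    rw [h1] at hx'
    obtain ⟨a, ha, b, hb, hab⟩ := Set.mem_mul.1 hx'
    exact ⟨a, ha, b, hb, hab⟩
  · rintro ⟨a, ha, b, hb, rfl⟩
    exact Subgroup.mul_mem_sup ha hb

theorem W_isComplIn (h : IsTypePWith M W₁ U W₂) : IsComplIn W₁ W₂ (W₁ ⊔ W₂) := by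
  refine ⟨le_sup_left, le_sup_right, W_inf h, fun m hm => ?_⟩
  obtain ⟨a, ha, b, hb, hab⟩ := (mem_W_iff h).1 hm
  exact ⟨a, ha, b, hb, hab.symm⟩

theorem card_W (h : IsTypePWith M W₁ U W₂) :
    Nat.card ↥(W₁ ⊔ W₂) = Nat.card W₁ * Nat.card W₂ := card_of_isComplIn (W_isComplIn h)

theorem coprime_W₁_derived (h : IsTypePWith M W₁ U W₂) :
    (Nat.card W₁).Coprime (Nat.card ↥⁅M, M⁆) := by
  have h1 := h.W₁_hall
  rwa [relIndex_right_of_isComplIn h.W₁_compl] at h1

theorem coprime_W₁_W₂ (h : IsTypePWith M W₁ U W₂) :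
    (Nat.card W₁).Coprime (Nat.card W₂) :=
  Nat.Coprime.coprime_dvd_right (Subgroup.card_dvd_of_le (W₂_le_derived h)) (coprime_W₁_derived h)

theorem coprime_W₁_fittingHallOf (h : IsTypePWith M W₁ U W₂) :
    (Nat.card W₁).Coprime (Nat.card (fittingHallOf M)) :=
  Nat.Coprime.coprime_dvd_right (Subgroup.card_dvd_of_le (fittingHallOf_le_derived' h))
    (coprime_W₁_derived h)

theorem coprime_W₁_U (h : IsTypePWith M W₁ U W₂) :
    (Nat.card W₁).Coprime (Nat.card U) :=
  Nat.Coprime.coprime_dvd_right (Subgroup.card_dvd_of_le (U_le h)) (coprime_W₁_derived h)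

/-- `|M| = |H||U||W₁|`. -/
theorem card_eq (h : IsTypePWith M W₁ U W₂) :
    Nat.card M = Nat.card (fittingHallOf M) * Nat.card U * Nat.card W₁ := by
  rw [card_of_isComplIn h.W₁_compl, card_of_isComplIn h.U_compl]

theorem card_derived (h : IsTypePWith M W₁ U W₂) :
    Nat.card ↥⁅M, M⁆ = Nat.card (fittingHallOf M) * Nat.card U := card_of_isComplIn h.U_compl

theorem derived_inf_W₁ (h : IsTypePWith M W₁ U W₂) : ⁅M, M⁆ ⊓ W₁ = ⊥ := h.W₁_compl.2.2.1

theorem derived_sup_W₁ (h : IsTypePWith M W₁ U W₂) : ⁅M, M⁆ ⊔ W₁ = M :=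
  sup_of_isComplIn h.W₁_compl

theorem fittingHallOf_nilpotent [Finite G] (M : Subgroup G) :
    Group.IsNilpotent ↥(fittingHallOf M) := fittingHallOf_isNilpotent M

theorem conj_mem_fittingHallOf (M : Subgroup G) :
    ∀ x ∈ M, ∀ h ∈ fittingHallOf M, x * h * x⁻¹ ∈ fittingHallOf M := by
  rintro t ht _ ⟨h, hh, rfl⟩
  exact ⟨⟨t, ht⟩ * h * ⟨t, ht⟩⁻¹, (fittingHall_normal M).conj_mem h hh _, rfl⟩

theorem conj_mem_derived (M : Subgroup G) :
    ∀ x ∈ M, ∀ h ∈ ⁅M, M⁆, x * h * x⁻¹ ∈ ⁅M, M⁆ := by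
  intro x hx h hh
  have h1 : ⁅x, h⁆ ∈ ⁅M, M⁆ :=
    Subgroup.commutator_mem_commutator hx (Subgroup.commutator_le_self M hh)
  have h2 : x * h * x⁻¹ = ⁅x, h⁆ * h := by rw [commutatorElement_def]; group
  rw [h2]
  exact Subgroup.mul_mem _ h1 hh

theorem mem_centralizer_of_comm {x y : G} (h : x * y = y * x) :
    y ∈ Subgroup.centralizer ({x} : Set G) := by
  rw [Subgroup.mem_centralizer_iff]
  rintro _ rfl
  exact h

theorem comm_of_mem_centralizer {x y : G} (h : y ∈ Subgroup.centralizer ({x} : Set G)) :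
    x * y = y * x := (Subgroup.mem_centralizer_iff.1 h) x rfl

/-- `U W₁` is a Frobenius group with kernel `U` and complement `W₁` (when `U ≠ 1`). -/
theorem U_fpf (h : IsTypePWith M W₁ U W₂) : ∀ w ∈ W₁, w ≠ 1 → ∀ x ∈ U, w * x = x * w → x = 1 := by
  intro w hw hw1 x hx hwx
  have h1 : x ∈ ⁅M, M⁆ ⊓ Subgroup.centralizer ({w} : Set G) :=
    Subgroup.mem_inf.2 ⟨U_le h hx, mem_centralizer_of_comm hwx⟩
  rw [h.W₂_centralizer w hw hw1] at h1
  have h2 : x ∈ fittingHallOf M ⊓ U := ⟨W₂_le_fittingHallOf h h1, hx⟩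
  rw [h.U_compl.2.2.1, Subgroup.mem_bot] at h2
  exact h2

/-- (8.5)(a) : `F(M) = H × C_U(H)`. -/
theorem fittingOf_eq [Finite G] (h : IsTypePWith M W₁ U W₂) :
    fittingOf M = fittingHallOf M ⊔ (U ⊓ Subgroup.centralizer (fittingHallOf M : Set G)) :=
  Cfsg.Agent.OddOrderLocal.TypeP.fittingOf_eq h

/-- (8.5)(b) -/
theorem derived_U_le [Finite G] (h : IsTypePWith M W₁ U W₂) :
    ⁅U, U⁆ ≤ Subgroup.centralizer (fittingHallOf M : Set G) ∧
      (U ≠ ⊥ → ¬ U ≤ Subgroup.centralizer (fittingHallOf M : Set G)) :=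
  ⟨Cfsg.Agent.OddOrderLocal.TypeP.commutator_U_le h,
    fun h1 h2 => h1 (Cfsg.Agent.OddOrderLocal.TypeP.U_eq_bot_of_le_centralizer h h2)⟩

/-- (8.5)(c) : cyclic TI hypothesis (3.1). -/
theorem cyclicTIHyp [Finite G] (hodd : Odd (Nat.card G)) (h : IsTypePWith M W₁ U W₂) :
    CyclicTIHyp (W₁ ⊔ W₂) W₁ W₂ where
  sup_eq := rfl
  odd := Odd.of_dvd_nat hodd (Subgroup.card_subgroup_dvd_card _)
  selfNormalizing := h.selfNormalizing

/-- Hypothesis (4.2). -/
theorem primeTIHyp [Finite G] (hodd : Odd (Nat.card G)) (h : IsTypePWith M W₁ U W₂) :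
    PrimeTIHyp M ⁅M, M⁆ (W₁ ⊔ W₂) W₁ W₂ where
  sup_eq := rfl
  le := derived_le M
  normal := conj_mem_derived M
  inf_eq := derived_inf_W₁ h
  sup_L := derived_sup_W₁ h
  W₁_ne := h.W₁_ne
  W₁_cyclic := h.W₁_cyclic
  W₁_hall := h.W₁_hall
  W₂_ne := W₂_ne h
  W₂_cyclic := W₂_cyclic h
  W₂_le := W₂_le_derived h
  centralizer_eq := h.W₂_centralizer
  odd := (cyclicTIHyp hodd h).odd

theorem W₁_isMulCommutative (h : IsTypePWith M W₁ U W₂) : ∀ a ∈ W₁, ∀ b ∈ W₁, a * b = b * a := by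
  intro a ha b hb
  have := h.W₁_cyclic
  have h1 : IsMulCommutative W₁ := IsCyclic.isMulCommutative
  have h2 : (⟨a, ha⟩ : W₁) * ⟨b, hb⟩ = ⟨b, hb⟩ * ⟨a, ha⟩ := mul_comm' _ _
  exact congrArg Subtype.val h2

/-- The centraliser in `M` of a nonidentity element of `W₁` is `W`. -/
theorem centralizer_W₁ (h : IsTypePWith M W₁ U W₂) {x : G} (hx : x ∈ W₁) (hx1 : x ≠ 1) :
    M ⊓ Subgroup.centralizer ({x} : Set G) = W₁ ⊔ W₂ := by
  apply le_antisymm
  · rintro y hy
    obtain ⟨hyM, hyx⟩ := Subgroup.mem_inf.1 hy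
    obtain ⟨a, ha, b, hb, rfl⟩ := h.W₁_compl.2.2.2 y hyM
    have hbx : b ∈ Subgroup.centralizer ({x} : Set G) :=
      mem_centralizer_of_comm (W₁_isMulCommutative h x hx b hb)
    have hax : a ∈ Subgroup.centralizer ({x} : Set G) := by
      have := Subgroup.mul_mem _ hyx (Subgroup.inv_mem _ hbx)
      rwa [mul_inv_cancel_right] at this
    have ha2 : a ∈ W₂ := by
      rw [← h.W₂_centralizer x hx hx1]
      exact Subgroup.mem_inf.2 ⟨ha, hax⟩
    exact Subgroup.mul_mem _ (Subgroup.mem_sup_right ha2) (Subgroup.mem_sup_left hb)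
  · refine le_inf (W_le h) (sup_le ?_ ?_)
    · intro b hb
      exact mem_centralizer_of_comm (W₁_isMulCommutative h x hx b hb)
    · intro b hb
      exact mem_centralizer_of_comm (W_comm h x hx b hb)

theorem normalizer_singleton (x : G) :
    Subgroup.normalizer ({x} : Set G) = Subgroup.centralizer ({x} : Set G) := by
  ext g
  rw [Subgroup.mem_set_normalizer_iff, Subgroup.mem_centralizer_iff]
  constructor
  · intro h y hy
    rw [Set.mem_singleton_iff] at hy
    subst hy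
    have := (h y).1 rfl
    rw [Set.mem_singleton_iff] at this
    calc y * g = (g * y * g⁻¹) * g := by rw [this]
      _ = g * y := by group
  · intro h y
    have hx := h x rfl
    rw [Set.mem_singleton_iff, Set.mem_singleton_iff]
    constructor
    · rintro rfl
      rw [← hx]; group
    · intro hy
      have : y = g⁻¹ * (g * y * g⁻¹) * g := by group
      rw [this, hy, mul_assoc, hx]; group

/-- The centraliser in `G` of an element of `W \ (W₁ ∪ W₂)` is `W`. -/
theorem centralizer_W (h : IsTypePWith M W₁ U W₂) {x : G} (hx : x ∈ W₁ ⊔ W₂) (hx1 : x ∉ W₁)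
    (hx2 : x ∉ W₂) : Subgroup.centralizer ({x} : Set G) = W₁ ⊔ W₂ := by
  rw [← normalizer_singleton]
  apply h.selfNormalizing.2.2.2.2.2
  · rintro _ rfl
    exact ⟨hx, by rintro (h | h); exacts [hx1 h, hx2 h]⟩
  · exact ⟨x, rfl⟩

end typeP

end Cfsg.Agent.OddOrderCharacters.PF8
end

-- part: OddOrderCharacters/PF8/DataConj
section
/-!
# Uniqueness of type P data up to conjugacy in `M` (`M` solvable)
-/

set_option autoImplicit false

open Cfsg
open scoped commutatorElement Pointwise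

namespace Cfsg.Agent.OddOrderCharacters.PF8

open Cfsg.Agent.OddOrderCharacters.PFDefs
open Cfsg.Agent.OddOrderCharacters.TypeEquivariance
open Cfsg.Agent.OddOrderLocal.FittingHall

universe u

variable {G : Type u} [Group G] [Finite G]

/-- Two subgroups of the same order of a solvable `M`, of order coprime to the index, are
conjugate in `M`. -/
theorem exists_conj_eq_of_card_eq {M A B : Subgroup G} (hsol : Group.IsSolvable M)
    (hA : A ≤ M) (hB : B ≤ M) (hcard : Nat.card A = Nat.card B)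
    (hcop : (Nat.card A).Coprime (A.relIndex M)) :
    ∃ m ∈ M, B = A.map (MulAut.conj m).toMonoidHom := by
  have hc : Nat.card M = Nat.card A * A.relIndex M := by
    have := Subgroup.relIndex_mul_relIndex (⊥ : Subgroup G) A M bot_le hA
    simpa [Subgroup.relIndex_bot_left] using this.symm
  have hA' : Nat.card (A.subgroupOf M) = Nat.card A :=
    Nat.card_congr (Subgroup.subgroupOfEquivOfLe hA).toEquiv
  have hB' : Nat.card (B.subgroupOf M) = Nat.card A := by
    rw [hcard]; exact Nat.card_congr (Subgroup.subgroupOfEquivOfLe hB).toEquiv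
  obtain ⟨g, hg⟩ := Cfsg.Agent.Solvable.Hall.hall_conj (G := M) (Nat.card A) (A.relIndex M) hc hcop
    (A.subgroupOf M) (B.subgroupOf M) hA' hB'
  refine ⟨g, g.2, ?_⟩
  ext x
  constructor
  · intro hx
    have hx' : (⟨x, hB hx⟩ : M) ∈ B.subgroupOf M := hx
    rw [← hg, Subgroup.mem_pointwise_smul_iff_inv_smul_mem] at hx'
    rw [mem_map_equiv']
    have h1 : (MulAut.conj (g : G)).symm x = ((MulAut.conj g)⁻¹ • (⟨x, hB hx⟩ : M) : M) := rfl
    rw [h1]
    exact hx'
  · rintro ⟨a, ha, rfl⟩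
    have ha' : (⟨a, hA ha⟩ : M) ∈ A.subgroupOf M := ha
    have h1 := Subgroup.smul_mem_pointwise_smul _ (MulAut.conj g) _ ha'
    rw [hg] at h1
    exact h1

theorem map_conj_eq_self {M : Subgroup G} {m : G} (hm : m ∈ M) :
    M.map (MulAut.conj m).toMonoidHom = M := by
  apply le_antisymm
  · rintro _ ⟨x, hx, rfl⟩
    exact M.mul_mem (M.mul_mem hm hx) (M.inv_mem hm)
  · intro x hx
    refine ⟨m⁻¹ * x * m, M.mul_mem (M.mul_mem (M.inv_mem hm) hx) hm, ?_⟩
    change m * (m⁻¹ * x * m) * m⁻¹ = x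
    group

theorem map_conj_map_conj' (S : Subgroup G) (g h : G) :
    (S.map (MulAut.conj g).toMonoidHom).map (MulAut.conj h).toMonoidHom =
      S.map (MulAut.conj (h * g)).toMonoidHom := by
  rw [Subgroup.map_map, map_mul]; rfl

theorem conj_smul_eq_map (g : G) (S : Subgroup G) :
    MulAut.conj g • S = S.map (MulAut.conj g).toMonoidHom := rfl

/-- Two `W₁`-invariant complements of `H` in `M'` are conjugate under `C_{M'}(W₁)`. -/
theorem exists_conj_U {M W₁ U W₂ U' W₂' : Subgroup G} (hsol : Group.IsSolvable M)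
    (h : IsTypePWith M W₁ U W₂) (h' : IsTypePWith M W₁ U' W₂') :
    ∃ c ∈ ⁅M, M⁆ ⊓ Subgroup.centralizer (W₁ : Set G), U' = U.map (MulAut.conj c).toMonoidHom := by
  have hsol' : Group.IsSolvable ↥⁅M, M⁆ := by
    have := hsol
    exact Group.isSolvable_of_isSolvable_injective
      (f := Subgroup.inclusion (Subgroup.commutator_le_self M)) (Subgroup.inclusion_injective _)
  have hcU : Nat.card U = Nat.card U' := by
    rw [← relIndex_left_of_isComplIn h.U_compl, ← relIndex_left_of_isComplIn h'.U_compl]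
  have hcop : (Nat.card U).Coprime (U.relIndex ⁅M, M⁆) := by
    rw [relIndex_right_of_isComplIn h.U_compl]
    exact (Cfsg.Agent.OddOrderLocal.TypeP.coprime_kernel_U h).symm
  obtain ⟨k, hk, hkU⟩ := exists_conj_eq_of_card_eq hsol' (U_le h) (U_le h') hcU hcop
  letI : MulAction G (Subgroup G) := MulAction.compHom (Subgroup G) (MulAut.conj : G →* MulAut G)
  have hsm : ∀ (g : G) (S : Subgroup G), g • S = S.map (MulAut.conj g).toMonoidHom :=
    fun g S => rfl
  have hW₁n : W₁ ≤ Subgroup.normalizer ((⁅M, M⁆ : Subgroup G) : Set G) :=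
    (W₁_le h).trans (Cfsg.Agent.OddOrderLocal.TypeP.le_normalizer_commutator M)
  have hfixU : ∀ {V : Subgroup G}, W₁ ≤ Subgroup.normalizer (V : Set G) → ∀ a ∈ W₁, a • V = V := by
    intro V hV a ha
    rw [hsm]
    exact Subgroup.mem_normalizer_iff_map_conj_eq.1 (hV ha)
  obtain ⟨c, hc1, hc2, hc3⟩ := Cfsg.Agent.Solvable.Glauberman.exists_centralizer_smul W₁ ⁅M, M⁆ hW₁n
    (coprime_W₁_derived h) (Or.inr hsol') (X := Subgroup G) U U' (hfixU h.U_normal)
    (hfixU h'.U_normal) hk (by rw [hsm]; exact hkU.symm)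
  exact ⟨c, Subgroup.mem_inf.2 ⟨hc1, hc2⟩, by rw [← hc3, hsm]⟩

omit [Finite G] in
theorem W₂_eq_of_same_W₁ {M W₁ U W₂ U' W₂' : Subgroup G}
    (h : IsTypePWith M W₁ U W₂) (h' : IsTypePWith M W₁ U' W₂') : W₂' = W₂ := by
  obtain ⟨x, hx⟩ := (Subgroup.ne_bot_iff_exists_ne_one).1 h.W₁_ne
  have hx1 : (x : G) ≠ 1 := by simpa using hx
  have h1 := h.W₂_centralizer x x.2 hx1
  have h2 := h'.W₂_centralizer x x.2 hx1
  rw [← h1, ← h2]

/-- Any two sets of type P data of a solvable subgroup `M` are conjugate in `M`. -/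
theorem typeP_data_conj_of_solvable {M : Subgroup G} (hsol : Group.IsSolvable M)
    {W₁ U W₂ W₁' U' W₂' : Subgroup G} (h : IsTypePWith M W₁ U W₂) (h' : IsTypePWith M W₁' U' W₂') :
    ∃ m ∈ M, W₁' = W₁.map (MulAut.conj m).toMonoidHom ∧ U' = U.map (MulAut.conj m).toMonoidHom ∧
      W₂' = W₂.map (MulAut.conj m).toMonoidHom := by
  have hc1 : Nat.card W₁ = Nat.card W₁' := by
    rw [← relIndex_left_of_isComplIn h.W₁_compl, ← relIndex_left_of_isComplIn h'.W₁_compl]
  obtain ⟨m, hm, hmW⟩ := exists_conj_eq_of_card_eq hsol (W₁_le h) (W₁_le h') hc1 h.W₁_hall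
  have h2 := isTypePWith_map_of (MulAut.conj m) M W₁ U W₂ h
  rw [map_conj_eq_self hm, ← hmW] at h2
  obtain ⟨c, hc, hcU⟩ := exists_conj_U hsol h2 h'
  obtain ⟨hcM, hcW⟩ := Subgroup.mem_inf.1 hc
  have hcM' : c ∈ M := derived_le M hcM
  have h3 := isTypePWith_map_of (MulAut.conj c) M _ _ _ h2
  have hcW₁ : W₁'.map (MulAut.conj c).toMonoidHom = W₁' := by
    ext x
    rw [mem_map_equiv']
    have key : ∀ y ∈ W₁', c * y * c⁻¹ = y := by
      intro y hy
      rw [← (Subgroup.mem_centralizer_iff.1 hcW) y hy]; group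
    constructor
    · intro hx
      have := key _ hx
      have h4 : c * (MulAut.conj c).symm x * c⁻¹ = x := (MulAut.conj c).apply_symm_apply x
      rw [h4] at this
      rw [this]; exact hx
    · intro hx
      have := key _ hx
      have h4 : (MulAut.conj c).symm x = x := by
        rw [MulEquiv.symm_apply_eq]; exact this.symm
      rw [h4]; exact hx
  rw [map_conj_eq_self hcM', hcW₁, ← hcU] at h3
  refine ⟨c * m, M.mul_mem hcM' hm, ?_, ?_, ?_⟩
  · rw [← map_conj_map_conj', ← hmW, hcW₁]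
  · rw [← map_conj_map_conj', hcU]
  · rw [← map_conj_map_conj']
    exact (W₂_eq_of_same_W₁ h3 h')

end Cfsg.Agent.OddOrderCharacters.PF8
end

-- part: OddOrderCharacters/PF8/Types
section
/-!
# The types of the maximal subgroups, and type P data versus the standard factorisation

Chain-safe: none of the literal S1380, S1385, S1390, S1391 is used.  Type I enters only through `IsOfTypeI'` /
`¬ IsOfTypeP`.
-/

set_option autoImplicit false

open Cfsg
open scoped commutatorElement Pointwise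

namespace Cfsg.Agent.OddOrderCharacters.PF8

open Cfsg.Agent.OddOrderCharacters.PFDefs
open Cfsg.Agent.OddOrderCharacters.TypeEquivariance
open Cfsg.Agent.OddOrderCharacters
open Cfsg.Agent.OddOrderLocal.FittingHall

universe u

variable {G : Type u} [Group G] [Finite G]

theorem isSolvable_of_coatom (hG : IsMinSimpleOddOrder G) {M : Subgroup G} (hM : IsCoatom M) :
    Group.IsSolvable M := hG.2.2.2 M hM.1

/-- Any two sets of type P data of `M` are conjugate in `M`. -/
theorem typeP_data_conj (hG : IsMinSimpleOddOrder G) {M : Subgroup G} (hM : IsCoatom M)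
    {W₁ U W₂ W₁' U' W₂' : Subgroup G} (h : IsTypePWith M W₁ U W₂) (h' : IsTypePWith M W₁' U' W₂') :
    ∃ m ∈ M, W₁' = W₁.map (MulAut.conj m).toMonoidHom ∧ U' = U.map (MulAut.conj m).toMonoidHom ∧
      W₂' = W₂.map (MulAut.conj m).toMonoidHom :=
  typeP_data_conj_of_solvable (isSolvable_of_coatom hG hM) h h'

/-! ### Type P data versus the standard factorisation -/

/-- `W₁` is a Hall `κ(M)`-subgroup of `M`. -/
theorem W₁_isPiHallOf (hG : IsMinSimpleOddOrder G) {M : Subgroup G} (hM : IsCoatom M)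
    {W₁ U W₂ : Subgroup G} (h : IsTypePWith M W₁ U W₂) : IsPiHallOf (kappa M) W₁ M := by
  refine ⟨W₁_le h, Cfsg.Agent.OddOrderLocal.TypePData.kappa_of_isTypePWith hG M hM h, ?_⟩
  obtain ⟨K, U', hKU⟩ := Cfsg.Agent.OddOrderLocal.TypeCore.exists_sigmaDecomposition hG M hM
  have hc := Cfsg.Agent.OddOrderLocal.TypePData.card_kappa_eq_of_isTypePWith hG M hM h K U' hKU
  have h1 : K.relIndex M = W₁.relIndex M := by
    have e1 := Subgroup.relIndex_mul_relIndex (⊥ : Subgroup G) K M bot_le hKU.hall.1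
    have e2 := Subgroup.relIndex_mul_relIndex (⊥ : Subgroup G) W₁ M bot_le (W₁_le h)
    rw [Subgroup.relIndex_bot_left, Subgroup.relIndex_bot_left] at e1 e2
    rw [hc] at e1
    exact Nat.eq_of_mul_eq_mul_left Nat.card_pos (e1.trans e2.symm)
  rw [← h1]
  exact hKU.hall.2.2

theorem kappa_nonempty (hG : IsMinSimpleOddOrder G) {M : Subgroup G} (hM : IsCoatom M)
    {W₁ U W₂ : Subgroup G} (h : IsTypePWith M W₁ U W₂) : (kappa M).Nonempty := by
  have h1 : Nat.card W₁ ≠ 1 := fun h0 => h.W₁_ne ((Subgroup.card_eq_one).mp h0)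
  obtain ⟨p, hp, hpd⟩ := Nat.exists_prime_and_dvd h1
  exact ⟨p, (W₁_isPiHallOf hG hM h).2.1 p hp hpd⟩

/-- Existence of a standard factorisation with `K = W₁`. -/
theorem exists_sigmaDecomposition_W₁ (hG : IsMinSimpleOddOrder G) {M : Subgroup G} (hM : IsCoatom M)
    {W₁ U W₂ : Subgroup G} (h : IsTypePWith M W₁ U W₂) :
    ∃ U' : Subgroup G, IsSigmaDecomposition M W₁ U' :=
  (S1352.result hG M hM W₁ h.W₁_cyclic (W₁_isPiHallOf hG hM h)).1

/-- `W₂ = K* = C_{M_σ}(W₁)`. -/
theorem W₂_eq (hG : IsMinSimpleOddOrder G) {M : Subgroup G} (hM : IsCoatom M)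
    {W₁ U W₂ : Subgroup G} (h : IsTypePWith M W₁ U W₂) :
    W₂ = sigmaCore M ⊓ Subgroup.centralizer (W₁ : Set G) := by
  apply le_antisymm
  · refine le_inf ((W₂_le_fittingHallOf h).trans (fittingHallOf_le_sigmaCore hG hM)) ?_
    intro x hx
    rw [Subgroup.mem_centralizer_iff]
    intro y hy
    exact W_comm h y hy x hx
  · obtain ⟨x, hx⟩ := (Subgroup.ne_bot_iff_exists_ne_one).1 h.W₁_ne
    have hx1 : (x : G) ≠ 1 := by simpa using hx
    rw [← h.W₂_centralizer x x.2 hx1]
    refine inf_le_inf (sigmaCore_le_derived hG hM) ?_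
    apply Subgroup.centralizer_le
    rintro _ rfl
    exact x.2

theorem typeP_of_typeII {M : Subgroup G} (h : IsOfTypeII M) : IsOfTypeP M := by
  obtain ⟨W₁, U, W₂, hP, -⟩ := h
  exact ⟨W₁, U, W₂, hP⟩

theorem typeP_of_typeIII {M : Subgroup G} (h : IsOfTypeIII M) : IsOfTypeP M := by
  obtain ⟨W₁, U, W₂, hP, -⟩ := h
  exact ⟨W₁, U, W₂, hP⟩

theorem typeP_of_typeIV {M : Subgroup G} (h : IsOfTypeIV M) : IsOfTypeP M := by
  obtain ⟨W₁, U, W₂, hP, -⟩ := h
  exact ⟨W₁, U, W₂, hP⟩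

theorem typeP_of_typeV {M : Subgroup G} (h : IsOfTypeV M) : IsOfTypeP M := by
  obtain ⟨W₁, U, W₂, hP, -⟩ := h
  exact ⟨W₁, U, W₂, hP⟩

/-- A maximal subgroup with `K ≠ 1` has one of the types II–V. -/
theorem type_of_K_ne_bot (hG : IsMinSimpleOddOrder G) {M : Subgroup G} (hM : IsCoatom M)
    {K U : Subgroup G} (hKU : IsSigmaDecomposition M K U) (hK : K ≠ ⊥) :
    IsOfTypeII M ∨ IsOfTypeIII M ∨ IsOfTypeIV M ∨ IsOfTypeV M :=
  Cfsg.Agent.OddOrderLocal.TheoremI.type_two_to_five hG M hM K U hKU hK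

/-- Type P is type II, III, IV or V. -/
theorem typeP_cases (hG : IsMinSimpleOddOrder G) {M : Subgroup G} (hM : IsCoatom M)
    (h : IsOfTypeP M) : IsOfTypeII M ∨ IsOfTypeIII M ∨ IsOfTypeIV M ∨ IsOfTypeV M := by
  obtain ⟨W₁, U, W₂, h⟩ := h
  obtain ⟨U', hU'⟩ := exists_sigmaDecomposition_W₁ hG hM h
  exact type_of_K_ne_bot hG hM hU' h.W₁_ne

theorem typeP_iff_kappa (hG : IsMinSimpleOddOrder G) {M : Subgroup G} (hM : IsCoatom M) :
    IsOfTypeP M ↔ (kappa M).Nonempty := by
  constructor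
  · rintro ⟨W₁, U, W₂, h⟩
    exact kappa_nonempty hG hM h
  · intro hk
    obtain ⟨K, U, hKU⟩ := Cfsg.Agent.OddOrderLocal.TypeCore.exists_sigmaDecomposition hG M hM
    have hK : K ≠ ⊥ := Cfsg.Agent.OddOrderLocal.TheoremI.ne_bot_of_kappa_nonempty hKU.hall hk
    rcases type_of_K_ne_bot hG hM hKU hK with h | h | h | h
    · exact typeP_of_typeII h
    · exact typeP_of_typeIII h
    · exact typeP_of_typeIV h
    · exact typeP_of_typeV h

/-- `M` is of type P iff `K ≠ 1` for a (any) standard factorisation. -/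
theorem typeP_iff_K_ne_bot (hG : IsMinSimpleOddOrder G) {M : Subgroup G} (hM : IsCoatom M)
    {K U : Subgroup G} (hKU : IsSigmaDecomposition M K U) : IsOfTypeP M ↔ K ≠ ⊥ := by
  constructor
  · intro h
    exact Cfsg.Agent.OddOrderLocal.TheoremI.ne_bot_of_kappa_nonempty hKU.hall
      ((typeP_iff_kappa hG hM).1 h)
  · intro hK
    rcases type_of_K_ne_bot hG hM hKU hK with h | h | h | h
    · exact typeP_of_typeII h
    · exact typeP_of_typeIII h
    · exact typeP_of_typeIV h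
    · exact typeP_of_typeV h

theorem type_cases (hG : IsMinSimpleOddOrder G) {M : Subgroup G} (hM : IsCoatom M) :
    ¬ IsOfTypeP M ∨ IsOfTypeII M ∨ IsOfTypeIII M ∨ IsOfTypeIV M ∨ IsOfTypeV M := by
  by_cases h : IsOfTypeP M
  · exact Or.inr (typeP_cases hG hM h)
  · exact Or.inl h

/-! ### The defining properties hold for every choice of data -/

section transport

variable {M W₁ U W₂ W₁' U' W₂' : Subgroup G} {m : G}

theorem map_conj_ne_bot {A : Subgroup G} (m : G) (h : A ≠ ⊥) :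
    A.map (MulAut.conj m).toMonoidHom ≠ ⊥ := fun h' => h ((map_eq_bot_iff' (MulAut.conj m) A).1 h')

end transport

theorem typeII_data (hG : IsMinSimpleOddOrder G) {M : Subgroup G} (hM : IsCoatom M)
    {W₁ U W₂ : Subgroup G} (h : IsTypePWith M W₁ U W₂) (hII : IsOfTypeII M) :
    U ≠ ⊥ ∧ (Nat.card W₁).Prime ∧ IsTISubset (fittingOf M : Set G) ∧ IsMulCommutative U ∧
      ¬ Subgroup.normalizer (U : Set G) ≤ M ∧ IsOfTypeF ↥⁅M, M⁆ ∧
      fittingHallOf ⁅M, M⁆ = fittingHallOf M := by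
  obtain ⟨W₁', U', W₂', h', h1, h2, h3, h4, h5, h6, h7⟩ := hII
  obtain ⟨m, hm, e1, e2, e3⟩ := typeP_data_conj hG hM h' h
  subst e1 e2 e3
  refine ⟨map_conj_ne_bot m h1, ?_, h3, ?_, ?_, h6, h7⟩
  · rw [card_map_equiv]; exact h2
  · exact (isMulCommutative_congr (subEquiv (MulAut.conj m) _)).2 h4
  · rw [normalizer_map, ← map_conj_eq_self hm, map_le_map_iff']; exact h5

theorem U_ne_bot_of_typeII (hG : IsMinSimpleOddOrder G) {M : Subgroup G} (hM : IsCoatom M)
    {W₁ U W₂ : Subgroup G} (h : IsTypePWith M W₁ U W₂) (hII : IsOfTypeII M) : U ≠ ⊥ :=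
  (typeII_data hG hM h hII).1

/-- For `M` not of Type II the order of `W₂` is prime. -/
theorem card_W₂_prime (hG : IsMinSimpleOddOrder G) {M : Subgroup G} (hM : IsCoatom M)
    {W₁ U W₂ : Subgroup G} (h : IsTypePWith M W₁ U W₂) (hII : ¬ IsOfTypeII M) :
    (Nat.card W₂).Prime := by
  obtain ⟨U', hU'⟩ := exists_sigmaDecomposition_W₁ hG hM h
  rw [S1381.result hG M hM W₁ U' hU'] at hII
  have hU1 : U' = ⊥ := by
    by_contra hne
    exact hII ⟨h.W₁_ne, hne⟩
  rw [W₂_eq hG hM h]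
  exact S1373.result hG M hM W₁ U' hU' h.W₁_ne hU1

theorem typeIII_IV_common (hG : IsMinSimpleOddOrder G) {M : Subgroup G} (hM : IsCoatom M)
    (hIII : IsOfTypeIII M ∨ IsOfTypeIV M) : ¬ IsOfTypeII M ∧ ¬ IsOfTypeV M := by
  obtain ⟨K, U, h⟩ := Cfsg.Agent.OddOrderLocal.TypeCore.exists_sigmaDecomposition hG M hM
  rw [S1382.result hG M hM K U h] at hIII
  rw [S1381.result hG M hM K U h, S1383.result hG M hM K U h]
  refine ⟨fun h1 => h1.2 hIII.2.1, fun h1 => hIII.2.2 h1.2.2⟩

theorem typeIII_data (hG : IsMinSimpleOddOrder G) {M : Subgroup G} (hM : IsCoatom M)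
    {W₁ U W₂ : Subgroup G} (h : IsTypePWith M W₁ U W₂) (hIII : IsOfTypeIII M) :
    U ≠ ⊥ ∧ (Nat.card W₁).Prime ∧ (Nat.card W₂).Prime ∧ IsTISubset (fittingOf M : Set G) ∧
      IsMulCommutative U ∧ Subgroup.normalizer (U : Set G) ≤ M := by
  have hnII := (typeIII_IV_common hG hM (Or.inl hIII)).1
  have hp := card_W₂_prime hG hM h hnII
  obtain ⟨W₁', U', W₂', h', h1, h2, h3, h4, h5⟩ := hIII
  obtain ⟨m, hm, e1, e2, e3⟩ := typeP_data_conj hG hM h' h
  subst e1 e2 e3
  refine ⟨map_conj_ne_bot m h1, ?_, hp, h3, ?_, ?_⟩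
  · rw [card_map_equiv]; exact h2
  · exact (isMulCommutative_congr (subEquiv (MulAut.conj m) _)).2 h4
  · rw [normalizer_map, ← map_conj_eq_self hm, map_le_map_iff']; exact h5

theorem typeIV_data (hG : IsMinSimpleOddOrder G) {M : Subgroup G} (hM : IsCoatom M)
    {W₁ U W₂ : Subgroup G} (h : IsTypePWith M W₁ U W₂) (hIV : IsOfTypeIV M) :
    U ≠ ⊥ ∧ (Nat.card W₁).Prime ∧ (Nat.card W₂).Prime ∧ IsTISubset (fittingOf M : Set G) ∧
      ¬ IsMulCommutative U ∧ Subgroup.normalizer (U : Set G) ≤ M := by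
  have hnII := (typeIII_IV_common hG hM (Or.inr hIV)).1
  have hp := card_W₂_prime hG hM h hnII
  obtain ⟨W₁', U', W₂', h', h1, h2, h3, h4, h5⟩ := hIV
  obtain ⟨m, hm, e1, e2, e3⟩ := typeP_data_conj hG hM h' h
  subst e1 e2 e3
  refine ⟨map_conj_ne_bot m h1, ?_, hp, h3, ?_, ?_⟩
  · rw [card_map_equiv]; exact h2
  · rw [isMulCommutative_congr (subEquiv (MulAut.conj m) _)]; exact h4
  · rw [normalizer_map, ← map_conj_eq_self hm, map_le_map_iff']; exact h5

theorem derived_eq_of_U_eq_bot {M W₁ U W₂ : Subgroup G} (h : IsTypePWith M W₁ U W₂)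
    (hU : U = ⊥) : ⁅M, M⁆ = fittingHallOf M := by
  rw [← sup_of_isComplIn h.U_compl, hU, sup_bot_eq]

theorem typeV_data (hG : IsMinSimpleOddOrder G) {M : Subgroup G} (hM : IsCoatom M)
    {W₁ U W₂ : Subgroup G} (h : IsTypePWith M W₁ U W₂) (hV : IsOfTypeV M) :
    U = ⊥ ∧ (Nat.card W₂).Prime ∧ ⁅M, M⁆ = fittingHallOf M ∧
    ( IsTISubset (fittingHallOf M : Set G) ∨
      (∃ p : ℕ, p.Prime ∧ p ∣ Nat.card (fittingHallOf M) ∧ Nat.card W₁ ∣ p - 1 ∧
        IsCyclic (pPrimeCore p (fittingHallOf M))) ∨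
      (∃ p : ℕ, p.Prime ∧ p ∣ Nat.card (fittingHallOf M) ∧
        Nat.card (pCore p (fittingHallOf M)) = p ^ 3 ∧
        Nat.card W₁ ∣ p + 1 ∧ IsCyclic (pPrimeCore p (fittingHallOf M))) ) := by
  have hnII : ¬ IsOfTypeII M := by
    intro hII
    obtain ⟨K, U, h⟩ := Cfsg.Agent.OddOrderLocal.TypeCore.exists_sigmaDecomposition hG M hM
    rw [S1381.result hG M hM K U h] at hII
    rw [S1383.result hG M hM K U h] at hV
    exact hII.2 hV.2.1
  have hp := card_W₂_prime hG hM h hnII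
  obtain ⟨W₁', U', W₂', h', h1, h2⟩ := hV
  obtain ⟨m, hm, e1, e2, e3⟩ := typeP_data_conj hG hM h' h
  subst e1 e2 e3
  refine ⟨?_, hp, ?_, ?_⟩
  · rw [h1, Subgroup.map_bot]
  · exact derived_eq_of_U_eq_bot h' h1
  · rw [card_map_equiv]; exact h2

/-- Types II, III, IV are exactly the types `P` with `U ≠ 1`. -/
theorem typeII_III_IV_of_U_ne (hG : IsMinSimpleOddOrder G) {M : Subgroup G} (hM : IsCoatom M)
    {W₁ U W₂ : Subgroup G} (h : IsTypePWith M W₁ U W₂) (hU : U ≠ ⊥) :
    IsOfTypeII M ∨ IsOfTypeIII M ∨ IsOfTypeIV M := by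
  rcases typeP_cases hG hM ⟨W₁, U, W₂, h⟩ with h1 | h1 | h1 | h1
  · exact Or.inl h1
  · exact Or.inr (Or.inl h1)
  · exact Or.inr (Or.inr h1)
  · exact absurd (typeV_data hG hM h h1).1 hU

theorem typeV_of_U_eq (hG : IsMinSimpleOddOrder G) {M : Subgroup G} (hM : IsCoatom M)
    {W₁ U W₂ : Subgroup G} (h : IsTypePWith M W₁ U W₂) (hU : U = ⊥) : IsOfTypeV M := by
  rcases typeP_cases hG hM ⟨W₁, U, W₂, h⟩ with h1 | h1 | h1 | h1
  · exact absurd hU (typeII_data hG hM h h1).1
  · exact absurd hU (typeIII_data hG hM h h1).1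
  · exact absurd hU (typeIV_data hG hM h h1).1
  · exact h1

theorem not_typeIII_of_typeII (hG : IsMinSimpleOddOrder G) {M : Subgroup G} (hM : IsCoatom M)
    (h : IsOfTypeII M) : ¬ IsOfTypeIII M ∧ ¬ IsOfTypeIV M ∧ ¬ IsOfTypeV M := by
  refine ⟨fun h1 => (typeIII_IV_common hG hM (Or.inl h1)).1 h,
    fun h1 => (typeIII_IV_common hG hM (Or.inr h1)).1 h, fun h1 => ?_⟩
  obtain ⟨W₁, U, W₂, hP⟩ := typeP_of_typeII h
  exact (typeII_data hG hM hP h).1 (typeV_data hG hM hP h1).1

theorem not_typeIV_of_typeIII (hG : IsMinSimpleOddOrder G) {M : Subgroup G} (hM : IsCoatom M)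
    (h : IsOfTypeIII M) : ¬ IsOfTypeII M ∧ ¬ IsOfTypeIV M ∧ ¬ IsOfTypeV M := by
  refine ⟨(typeIII_IV_common hG hM (Or.inl h)).1, fun h1 => ?_,
    (typeIII_IV_common hG hM (Or.inl h)).2⟩
  obtain ⟨W₁, U, W₂, hP⟩ := typeP_of_typeIII h
  exact (typeIV_data hG hM hP h1).2.2.2.2.1 (typeIII_data hG hM hP h).2.2.2.2.1

theorem not_typeV_of_typeIV (hG : IsMinSimpleOddOrder G) {M : Subgroup G} (hM : IsCoatom M)
    (h : IsOfTypeIV M) : ¬ IsOfTypeII M ∧ ¬ IsOfTypeIII M ∧ ¬ IsOfTypeV M :=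
  ⟨(typeIII_IV_common hG hM (Or.inr h)).1, fun h1 => (not_typeIV_of_typeIII hG hM h1).2.1 h,
    (typeIII_IV_common hG hM (Or.inr h)).2⟩

theorem not_typeII_of_typeV (hG : IsMinSimpleOddOrder G) {M : Subgroup G} (hM : IsCoatom M)
    (h : IsOfTypeV M) : ¬ IsOfTypeII M ∧ ¬ IsOfTypeIII M ∧ ¬ IsOfTypeIV M :=
  ⟨fun h1 => (not_typeIII_of_typeII hG hM h1).2.2 h,
    fun h1 => (not_typeIV_of_typeIII hG hM h1).2.2 h,
    fun h1 => (not_typeV_of_typeIV hG hM h1).2.2 h⟩

/-- For `U ≠ 1` the order of `W₁` is prime and `F(M)` is TI. -/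
theorem card_W₁_prime (hG : IsMinSimpleOddOrder G) {M : Subgroup G} (hM : IsCoatom M)
    {W₁ U W₂ : Subgroup G} (h : IsTypePWith M W₁ U W₂) (hU : U ≠ ⊥) :
    (Nat.card W₁).Prime ∧ IsTISubset (fittingOf M : Set G) := by
  rcases typeII_III_IV_of_U_ne hG hM h hU with h1 | h1 | h1
  · have := typeII_data hG hM h h1
    exact ⟨this.2.1, this.2.2.1⟩
  · have := typeIII_data hG hM h h1
    exact ⟨this.2.1, this.2.2.2.1⟩
  · have := typeIV_data hG hM h h1
    exact ⟨this.2.1, this.2.2.2.1⟩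

/-! ### `M_s` -/

theorem typeCore_eq_sigmaCore (hG : IsMinSimpleOddOrder G) {M : Subgroup G} (hM : IsCoatom M) :
    typeCore M = sigmaCore M :=
  Cfsg.Agent.OddOrderLocal.TypeCore.typeCore_eq_sigmaCore hG M hM

theorem typeCore_of_typeII {M : Subgroup G} (h : IsOfTypeII M) : typeCore M = fittingHallOf M :=
  TypeExclusive.typeCore_of_II h

theorem typeCore_of_not_typeP {M : Subgroup G} (h : ¬ IsOfTypeP M) :
    typeCore M = fittingHallOf M := WeakTypes.typeCore_of_not_P h

theorem typeCore_of_typeV (hG : IsMinSimpleOddOrder G) {M : Subgroup G} (hM : IsCoatom M)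
    (h : IsOfTypeV M) : typeCore M = fittingHallOf M ∧ typeCore M = ⁅M, M⁆ := by
  have h1 : typeCore M = fittingHallOf M := by
    apply TypeSetsBasic.typeCore_of_not
    have := not_typeII_of_typeV hG hM h
    exact fun h1 => h1.elim this.2.1 this.2.2
  obtain ⟨W₁, U, W₂, hP⟩ := typeP_of_typeV h
  exact ⟨h1, by rw [h1, (typeV_data hG hM hP h).2.2.1]⟩

/-- `M_s` is `M_F` for types I, II, V and `M'` for types III, IV, V. -/
theorem typeCore_eq (hG : IsMinSimpleOddOrder G) {M : Subgroup G} (hM : IsCoatom M) :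
    (¬ IsOfTypeP M ∨ IsOfTypeII M ∨ IsOfTypeV M → typeCore M = fittingHallOf M) ∧
    (IsOfTypeIII M ∨ IsOfTypeIV M ∨ IsOfTypeV M → typeCore M = ⁅M, M⁆) := by
  constructor
  · rintro (h | h | h)
    · exact typeCore_of_not_typeP h
    · exact typeCore_of_typeII h
    · exact (typeCore_of_typeV hG hM h).1
  · rintro (h | h | h)
    · exact TypeSetsBasic.typeCore_of_three_or_four (Or.inl h)
    · exact TypeSetsBasic.typeCore_of_three_or_four (Or.inr h)
    · exact (typeCore_of_typeV hG hM h).2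

theorem typeCore_of_typeI' {M : Subgroup G} (h : IsOfTypeI' M) : typeCore M = fittingHallOf M :=
  WeakTypes.typeCore_of_I' h

/-- For types III, IV, V all three of `A₁`, `A'` are `M' \ 1`. -/
theorem typeA'_eq_of_not_typeII (hG : IsMinSimpleOddOrder G) {M : Subgroup G} (hM : IsCoatom M)
    (hP : IsOfTypeP M) (hII : ¬ IsOfTypeII M) :
    typeCore M = ⁅M, M⁆ ∧ typeA1 M = ((⁅M, M⁆ : Subgroup G) : Set G) \ {1} ∧
      typeA' M = ((⁅M, M⁆ : Subgroup G) : Set G) \ {1} := by
  have h1 : typeCore M = ⁅M, M⁆ := by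
    rcases typeP_cases hG hM hP with h | h | h | h
    · exact absurd h hII
    · exact (typeCore_eq hG hM).2 (Or.inl h)
    · exact (typeCore_eq hG hM).2 (Or.inr (Or.inl h))
    · exact (typeCore_eq hG hM).2 (Or.inr (Or.inr h))
  refine ⟨h1, ?_, ?_⟩
  · ext x
    rw [TypeSetsBasic.mem_typeA1, h1]
    rfl
  · ext x
    rw [WeakTypes.mem_typeA'_of_P hP, h1]
    constructor
    · rintro ⟨h2, h3, -⟩
      exact ⟨h2, h3⟩
    · rintro ⟨h2, h3⟩
      exact ⟨h2, h3, x, h2, h3, rfl⟩

/-- `K = W₁`, `K* = W₂` and `U` in the local analysis. -/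
theorem exists_sigmaDecomposition (hG : IsMinSimpleOddOrder G) {M : Subgroup G} (hM : IsCoatom M)
    {W₁ U W₂ : Subgroup G} (h : IsTypePWith M W₁ U W₂) :
    (∃ U' : Subgroup G, IsSigmaDecomposition M W₁ U' ∧ (IsOfTypeII M → U' = U) ∧
      (¬ IsOfTypeII M → U' = ⊥)) ∧
      W₂ = sigmaCore M ⊓ Subgroup.centralizer (W₁ : Set G) := by
  refine ⟨?_, W₂_eq hG hM h⟩
  by_cases hII : IsOfTypeII M
  · have hcore : sigmaCore M = fittingHallOf M := by
      rw [← typeCore_eq_sigmaCore hG hM, (typeCore_eq hG hM).1 (Or.inr (Or.inl hII))]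
    refine ⟨U, ⟨h.W₁_cyclic, W₁_isPiHallOf hG hM h, ⟨U_le_M h, ?_, ?_, ?_⟩, h.U_normal⟩,
      fun _ => rfl, fun h1 => absurd hII h1⟩
    · rw [hcore]
      exact sup_le (W₁_le h) ((fittingHallOf_le_derived' h).trans (derived_le M))
    · rw [hcore, eq_bot_iff]
      rintro x hx
      obtain ⟨hx1, hx2⟩ := Subgroup.mem_inf.1 hx
      have hn : W₁ ≤ Subgroup.normalizer (fittingHallOf M : Set G) :=
        (W₁_le h).trans (le_normalizer_fittingHallOf M)
      obtain ⟨a, ha, b, hb, hab⟩ :=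
        Cfsg.Agent.OddOrderLocal.TypePData.mem_sup_of_le_normalizer hn hx2
      have ha' : a ∈ ⁅M, M⁆ ⊓ W₁ := by
        refine ⟨?_, ha⟩
        have : a = x * b⁻¹ := by rw [hab]; group
        rw [this]
        exact Subgroup.mul_mem _ (U_le h hx1)
          (Subgroup.inv_mem _ (fittingHallOf_le_derived' h hb))
      rw [derived_inf_W₁ h, Subgroup.mem_bot] at ha'
      rw [ha', one_mul] at hab
      have h2 : x ∈ fittingHallOf M ⊓ U := ⟨hab ▸ hb, hx1⟩
      rw [h.U_compl.2.2.1] at h2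
      exact h2
    · intro m hm
      obtain ⟨a, ha, b, hb, hab⟩ := (isComplIn_symm h.W₁_compl).2.2.2 m⁻¹ (M.inv_mem hm)
      -- m = b⁻¹ a⁻¹ with b ∈ M', a ∈ W₁
      obtain ⟨c, hc, d, hd, hcd⟩ := (isComplIn_symm h.U_compl).2.2.2 b⁻¹ (Subgroup.inv_mem _ hb)
      refine ⟨c, hc, d * a⁻¹, ?_, ?_⟩
      · rw [hcore]
        exact Subgroup.mul_mem _ (Subgroup.mem_sup_right hd)
          (Subgroup.mem_sup_left (Subgroup.inv_mem _ ha))
      · rw [← mul_assoc, ← hcd, ← mul_inv_rev, ← hab, inv_inv]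
  · obtain ⟨U', hU'⟩ := exists_sigmaDecomposition_W₁ hG hM h
    refine ⟨U', hU', fun h1 => absurd h1 hII, fun _ => ?_⟩
    rw [S1381.result hG M hM W₁ U' hU'] at hII
    by_contra hne
    exact hII ⟨h.W₁_ne, hne⟩

/-- (8.11) -/
theorem hall_typeCore (hG : IsMinSimpleOddOrder G) {M : Subgroup G} (hM : IsCoatom M) :
    (Nat.card (fittingHallOf M)).Coprime (fittingHallOf M).index ∧
      (Nat.card (typeCore M)).Coprime (typeCore M).index :=
  (S1389.result hG M hM).2

end Cfsg.Agent.OddOrderCharacters.PF8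
end
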